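import Groth.Agent.FEtColimLib.Coeq
import Mathlib.CategoryTheory.Limits.Constructions.FiniteProductsOfBinaryProducts
import Mathlib.CategoryTheory.Limits.Types.Coproducts
import Mathlib.CategoryTheory.Limits.Preserves.Shapes.Equalizers

/-!
# Finite colimits of finite étale covers
-/

set_option autoImplicit false
set_option linter.style.haveILetI false
universe u

open CategoryTheory CategoryTheory.Limits AlgebraicGeometry

noncomputable section

namespace FEtColim

variable {X : Scheme.{u}}

theorem restrict_map_fst {X' : Scheme.{u}} (f : X' ⟶ X) {Y Z : FEt.Cat X} (g : Y ⟶ Z) :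
    ((FEt.restrict f).map g).left ≫ pullback.fst (str Z) f = pullback.fst (str Y) f ≫ g.left := by
  exact pullback.lift_fst _ _ _

/-- Geometric points of a base change. -/
def restrictFib {X' : Scheme.{u}} (f : X' ⟶ X) {Ω : Type u} [Field Ω] (ξ : Spec (CommRingCat.of Ω) ⟶ X')
    (Y : FEt.Cat X) : FEt.fiberObj ξ ((FEt.restrict f).obj Y) ≃ FEt.fiberObj (ξ ≫ f) Y where
  toFun s := ⟨s.1 ≫ pullback.fst (str Y) f,
    (Category.assoc s.1 (pullback.fst (str Y) f) (str Y)).trans
      ((congrArg (s.1 ≫ ·) (pullback.condition (f := str Y) (g := f))).trans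
        ((Category.assoc s.1 (pullback.snd (str Y) f) f).symm.trans (congrArg (· ≫ f) s.2)))⟩
  invFun t := ⟨pullback.lift t.1 ξ t.2, pullback.lift_snd _ _ _⟩
  left_inv s := Subtype.ext (pullback.hom_ext (pullback.lift_fst _ _ _)
    ((pullback.lift_snd _ _ _).trans s.2.symm))
  right_inv t := Subtype.ext (pullback.lift_fst _ _ _)

theorem restrictFib_map {X' : Scheme.{u}} (f : X' ⟶ X) {Ω : Type u} [Field Ω] (ξ : Spec (CommRingCat.of Ω) ⟶ X')
    {Y Z : FEt.Cat X} (g : Y ⟶ Z) (s : FEt.fiberObj ξ ((FEt.restrict f).obj Y)) :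
    restrictFib f ξ Z ((FEt.fiber ξ).map ((FEt.restrict f).map g) s) = (FEt.fiber (ξ ≫ f)).map g (restrictFib f ξ Y s) := by
  refine Subtype.ext ?_
  show (s.1 ≫ ((FEt.restrict f).map g).left) ≫ pullback.fst (str Z) f = (s.1 ≫ pullback.fst (str Y) f) ≫ g.left
  exact (Category.assoc _ _ _).trans ((congrArg (s.1 ≫ ·) (restrict_map_fst f g)).trans
    (Category.assoc s.1 (pullback.fst (str Y) f) g.left).symm)

/-! ### Initial object -/

/-- The empty cover. -/
def emptyCov : FEt.Cat X :=
  MorphismProperty.Over.mk ⊤ (Scheme.emptyTo X) ⟨inferInstance, inferInstance⟩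

/-- A cover with empty geometric fibres is initial. -/
theorem nonempty_isInitial (Y : FEt.Cat X)
    (h : ∀ (Ω : Type u) [Field Ω] [IsAlgClosed Ω] (ξ : Spec (CommRingCat.of Ω) ⟶ X), IsEmpty (FEt.fiberObj ξ Y)) :
    Nonempty (IsInitial Y) := by
  haveI : IsEmpty Y.left := ⟨fun y => by
    obtain ⟨Ω, _, _, s, -⟩ := exists_geomPt Y.left y
    exact (h Ω _).elim (pt s)⟩
  obtain ⟨hY⟩ := (isInitial_iff_isEmpty (X := Y.left)).mpr inferInstance
  exact ⟨IsInitial.ofUniqueHom (fun Z => MorphismProperty.Over.homMk (hY.to Z.left) (hY.hom_ext _ _))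
    fun Z m => MorphismProperty.Over.Hom.ext (hY.hom_ext _ _)⟩

theorem isEmpty_fibre_of_isEmpty (Y : FEt.Cat X) [IsEmpty Y.left] {Ω : Type u} [Field Ω]
    (ξ : Spec (CommRingCat.of Ω) ⟶ X) : IsEmpty (FEt.fiberObj ξ Y) :=
  ⟨fun s => IsEmpty.false (s.1 (IsLocalRing.closedPoint Ω))⟩

instance hasInitial : HasInitial (FEt.Cat X) := by
  haveI : IsEmpty (emptyCov (X := X)).left := (inferInstance : IsEmpty (∅ : Scheme.{u}))
  obtain ⟨h⟩ := nonempty_isInitial (emptyCov (X := X)) fun Ω _ _ ξ => isEmpty_fibre_of_isEmpty _ ξ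
  exact h.hasInitial

theorem isEmpty_fibre_initial {Y : FEt.Cat X} (hY : IsInitial Y) {Ω : Type u} [Field Ω]
    (ξ : Spec (CommRingCat.of Ω) ⟶ X) : IsEmpty (FEt.fiberObj ξ Y) := by
  haveI : IsEmpty Y.left := ⟨fun y => IsEmpty.false (α := (∅ : Scheme.{u})) ((hY.to emptyCov).left y)⟩
  exact isEmpty_fibre_of_isEmpty _ ξ

/-! ### Binary coproducts -/

theorem etale_coprodDesc {A B S : Scheme.{u}} (f : A ⟶ S) (g : B ⟶ S) [Etale f] [Etale g] :
    Etale (coprod.desc f g) := by
  rw [IsZariskiLocalAtSource.iff_of_openCover (P := @Etale) (coprodOpenCover.{_, 0} A B)]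
  rintro (i | i)
  · show Etale (coprod.inl ≫ coprod.desc f g)
    rw [coprod.inl_desc]; infer_instance
  · show Etale (coprod.inr ≫ coprod.desc f g)
    rw [coprod.inr_desc]; infer_instance

/-- The disjoint union of two covers. -/
def sumCov (A B : FEt.Cat X) : FEt.Cat X :=
  MorphismProperty.Over.mk ⊤ (coprod.desc (str A) (str B)) (by
    haveI := isFinite_hom A
    haveI := isFinite_hom B
    haveI := etale_hom A
    haveI := etale_hom B
    exact ⟨inferInstance, etale_coprodDesc _ _⟩)

def sumInl (A B : FEt.Cat X) : A ⟶ sumCov A B := MorphismProperty.Over.homMk coprod.inl (coprod.inl_desc _ _)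

def sumInr (A B : FEt.Cat X) : B ⟶ sumCov A B := MorphismProperty.Over.homMk coprod.inr (coprod.inr_desc _ _)

/-- The disjoint union is a coproduct. -/
def isColimitSum (A B : FEt.Cat X) : IsColimit (BinaryCofan.mk (sumInl A B) (sumInr A B)) :=
  BinaryCofan.IsColimit.mk _
    (fun f g => MorphismProperty.Over.homMk (coprod.desc f.left g.left) (coprod.hom_ext
      ((coprod.inl_desc_assoc f.left g.left _).trans ((w f).trans (coprod.inl_desc (str A) (str B)).symm))
      ((coprod.inr_desc_assoc f.left g.left _).trans ((w g).trans (coprod.inr_desc (str A) (str B)).symm))))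
    (fun f g => MorphismProperty.Over.Hom.ext (coprod.inl_desc _ _))
    (fun f g => MorphismProperty.Over.Hom.ext (coprod.inr_desc _ _))
    fun f g m h1 h2 => MorphismProperty.Over.Hom.ext (coprod.hom_ext
      ((congrArg (fun k => k.left) h1).trans (coprod.inl_desc _ _).symm)
      ((congrArg (fun k => k.left) h2).trans (coprod.inr_desc _ _).symm))

/-- The map on geometric fibres, as a function. -/
abbrev fmap {Ω : Type u} [Field Ω] (ξ : Spec (CommRingCat.of Ω) ⟶ X) {Y Z : FEt.Cat X} (g : Y ⟶ Z) :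
    FEt.fiberObj ξ Y → FEt.fiberObj ξ Z := fun s => (FEt.fiber ξ).map g s

theorem mem_or {A B P : Type*} {i : A → P} {j : B → P} (h : IsCompl (Set.range i) (Set.range j)) (z : P) :
    (∃ s, i s = z) ∨ ∃ t, j t = z := by
  have : z ∈ Set.range i ⊔ Set.range j := by rw [h.sup_eq_top]; trivial
  exact this

/-- Transport of a disjoint union decomposition along bijections. -/
theorem sum_transport {A B P A' B' P' : Type*} (E : P ≃ P') (a : A' ≃ A) (b : B' ≃ B) {i : A → P} {j : B → P}
    {i' : A' → P'} {j' : B' → P'} (hi : ∀ s, i' s = E (i (a s))) (hj : ∀ s, j' s = E (j (b s)))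
    (h : Function.Injective i ∧ Function.Injective j ∧ IsCompl (Set.range i) (Set.range j)) :
    Function.Injective i' ∧ Function.Injective j' ∧ IsCompl (Set.range i') (Set.range j') := by
  obtain rfl : i' = E ∘ i ∘ a := funext hi
  obtain rfl : j' = E ∘ j ∘ b := funext hj
  refine ⟨E.injective.comp (h.1.comp a.injective), E.injective.comp (h.2.1.comp b.injective), ?_⟩
  rw [Set.range_comp E, Set.range_comp E, a.surjective.range_comp, b.surjective.range_comp, ← eq_compl_iff_isCompl,
    ← Equiv.image_compl, eq_compl_iff_isCompl.mpr h.2.2]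

/-- The condition on geometric fibres of a binary coproduct. -/
def IsFibreSum {A B P : FEt.Cat X} (i : A ⟶ P) (j : B ⟶ P) {Ω : Type u} [Field Ω]
    (ξ : Spec (CommRingCat.of Ω) ⟶ X) : Prop :=
  Function.Injective (fmap ξ i) ∧ Function.Injective (fmap ξ j) ∧ IsCompl (Set.range (fmap ξ i)) (Set.range (fmap ξ j))

theorem isFibreSum_sum (A B : FEt.Cat X) {Ω : Type u} [Field Ω] (ξ : Spec (CommRingCat.of Ω) ⟶ X) :
    IsFibreSum (sumInl A B) (sumInr A B) ξ := by
  refine ⟨fun s t h => ?_, fun s t h => ?_, ?_⟩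
  · exact Subtype.ext ((cancel_mono (coprod.inl : A.left ⟶ A.left ⨿ B.left)).mp (congrArg Subtype.val h))
  · exact Subtype.ext ((cancel_mono (coprod.inr : B.left ⟶ A.left ⨿ B.left)).mp (congrArg Subtype.val h))
  refine ⟨Set.disjoint_iff_forall_ne.mpr ?_, codisjoint_iff.mpr (Set.eq_univ_of_forall fun z => ?_)⟩
  · rintro _ ⟨s, rfl⟩ _ ⟨t, rfl⟩ h
    have := congrArg (fun m : Spec (CommRingCat.of Ω) ⟶ A.left ⨿ B.left => m (IsLocalRing.closedPoint Ω))
      (congrArg Subtype.val h)
    exact inl_ne_inr A.left B.left _ _ this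
  · let z' : Spec (CommRingCat.of Ω) ⟶ A.left ⨿ B.left := z.1
    have hcov := mem_or (isCompl_range_inl_inr A.left B.left) (z' (IsLocalRing.closedPoint Ω))
    rcases hcov with hz | hz
    · have hr : Set.range z' ⊆ Set.range (coprod.inl : A.left ⟶ A.left ⨿ B.left) := by
        rw [range_point, Set.singleton_subset_iff]; exact hz
      have hfac := IsOpenImmersion.lift_fac _ z' hr
      refine Or.inl ⟨⟨IsOpenImmersion.lift _ z' hr, ?_⟩, Subtype.ext hfac⟩
      have h1 : (IsOpenImmersion.lift _ z' hr ≫ coprod.inl) ≫ coprod.desc (str A) (str B) = ξ := by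
        rw [hfac]; exact z.2
      rwa [Category.assoc, coprod.inl_desc] at h1
    · have hr : Set.range z' ⊆ Set.range (coprod.inr : B.left ⟶ A.left ⨿ B.left) := by
        rw [range_point, Set.singleton_subset_iff]; exact hz
      have hfac := IsOpenImmersion.lift_fac _ z' hr
      refine Or.inr ⟨⟨IsOpenImmersion.lift _ z' hr, ?_⟩, Subtype.ext hfac⟩
      have h1 : (IsOpenImmersion.lift _ z' hr ≫ coprod.inr) ≫ coprod.desc (str A) (str B) = ξ := by
        rw [hfac]; exact z.2
      rwa [Category.assoc, coprod.inr_desc] at h1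

theorem isFibreSum_iso {A B P P' : FEt.Cat X} {i : A ⟶ P} {j : B ⟶ P} {i' : A ⟶ P'} {j' : B ⟶ P'} (e : P ≅ P')
    (hi : i ≫ e.hom = i') (hj : j ≫ e.hom = j') {Ω : Type u} [Field Ω] (ξ : Spec (CommRingCat.of Ω) ⟶ X)
    (h : IsFibreSum i j ξ) : IsFibreSum i' j' ξ := by
  refine sum_transport ((FEt.fiber ξ).mapIso e).toEquiv (Equiv.refl _) (Equiv.refl _) (fun s => ?_) (fun s => ?_) h
  · show (FEt.fiber ξ).map i' s = _
    rw [← hi, Functor.map_comp]; rfl
  · show (FEt.fiber ξ).map j' s = _
    rw [← hj, Functor.map_comp]; rfl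

theorem isFibreSum_of_isColimit {A B P : FEt.Cat X} {i : A ⟶ P} {j : B ⟶ P}
    (h : IsColimit (BinaryCofan.mk i j)) {Ω : Type u} [Field Ω] (ξ : Spec (CommRingCat.of Ω) ⟶ X) :
    IsFibreSum i j ξ :=
  isFibreSum_iso ((isColimitSum A B).coconePointUniqueUpToIso h)
    ((isColimitSum A B).comp_coconePointUniqueUpToIso_hom h ⟨WalkingPair.left⟩)
    ((isColimitSum A B).comp_coconePointUniqueUpToIso_hom h ⟨WalkingPair.right⟩) ξ (isFibreSum_sum A B ξ)

/-- A cofan whose geometric fibres are disjoint unions is a coproduct. -/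
theorem nonempty_isColimit_binary {A B P : FEt.Cat X} (i : A ⟶ P) (j : B ⟶ P)
    (h : ∀ (Ω : Type u) [Field Ω] [IsAlgClosed Ω] (ξ : Spec (CommRingCat.of Ω) ⟶ X), IsFibreSum i j ξ) :
    Nonempty (IsColimit (BinaryCofan.mk i j)) := by
  let c := BinaryCofan.mk i j
  let m : sumCov A B ⟶ P := (isColimitSum A B).desc c
  have hi : sumInl A B ≫ m = i := (isColimitSum A B).fac c ⟨WalkingPair.left⟩
  have hj : sumInr A B ≫ m = j := (isColimitSum A B).fac c ⟨WalkingPair.right⟩
  haveI : IsIso m := isIso_of_fibre m fun Ω _ _ ξ => by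
    obtain ⟨hi1, hj1, hc⟩ := h Ω ξ
    obtain ⟨-, -, hs⟩ := isFibreSum_sum A B ξ
    have ei : ∀ s : FEt.fiberObj ξ A, fmap ξ m (fmap ξ (sumInl A B) s) = fmap ξ i s :=
      fun s => by simp only [fmap]; rw [← hi, Functor.map_comp]; rfl
    have ej : ∀ s : FEt.fiberObj ξ B, fmap ξ m (fmap ξ (sumInr A B) s) = fmap ξ j s :=
      fun s => by simp only [fmap]; rw [← hj, Functor.map_comp]; rfl
    show Function.Bijective (fmap ξ m)
    constructor
    · intro p q hpq
      rcases mem_or hs p with ⟨p, rfl⟩ | ⟨p, rfl⟩ <;> rcases mem_or hs q with ⟨q, rfl⟩ | ⟨q, rfl⟩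
      · rw [ei, ei] at hpq; rw [hi1 hpq]
      · rw [ei, ej] at hpq
        exact absurd hpq (Set.disjoint_iff_forall_ne.mp hc.disjoint ⟨p, rfl⟩ ⟨q, rfl⟩)
      · rw [ej, ei] at hpq
        exact absurd hpq.symm (Set.disjoint_iff_forall_ne.mp hc.disjoint ⟨q, rfl⟩ ⟨p, rfl⟩)
      · rw [ej, ej] at hpq; rw [hj1 hpq]
    · intro z
      rcases mem_or hc z with ⟨z, rfl⟩ | ⟨z, rfl⟩
      · exact ⟨_, ei z⟩
      · exact ⟨_, ej z⟩
  exact ⟨IsColimit.ofIsoColimit (isColimitSum A B) (Cocone.ext (@asIso _ _ _ _ m this) fun k => (isColimitSum A B).fac c k)⟩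

instance hasBinaryCoproducts : HasBinaryCoproducts (FEt.Cat X) :=
  haveI : ∀ A B : FEt.Cat X, HasColimit (pair A B) := fun A B => ⟨⟨⟨_, isColimitSum A B⟩⟩⟩
  hasBinaryCoproducts_of_hasColimit_pair _

instance hasCoequalizers : HasCoequalizers (FEt.Cat X) :=
  haveI : ∀ {U V : FEt.Cat X} (a b : U ⟶ V), HasColimit (parallelPair a b) :=
    fun a b => ⟨⟨⟨_, (nonempty_isColimit_coeq a b).some⟩⟩⟩
  hasCoequalizers_of_hasColimit_parallelPair _

instance hasFiniteCoproducts : HasFiniteCoproducts (FEt.Cat X) :=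
  hasFiniteCoproducts_of_has_binary_and_initial

instance hasFiniteColimits : HasFiniteColimits (FEt.Cat X) :=
  hasFiniteColimits_of_hasCoequalizers_and_finite_coproducts

theorem preservesInitial {D : Type*} [Category D] (G : FEt.Cat X ⥤ D)
    (h : ∀ (Y : FEt.Cat X), IsInitial Y → Nonempty (IsInitial (G.obj Y))) :
    PreservesColimitsOfShape (Discrete PEmpty.{1}) G := by
  refine ⟨fun {K} => ?_⟩
  haveI : PreservesColimit (Functor.empty.{0} (FEt.Cat X)) G :=
    preservesColimit_of_preserves_colimit_cocone initialIsInitial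
      ((isColimitMapCoconeEmptyCoconeEquiv G _).symm (h _ initialIsInitial).some)
  exact preservesColimit_of_iso_diagram G (Functor.uniqueFromEmpty K).symm

/-- Preservation of finite colimits tested on the basic colimits. -/
theorem preservesFiniteColimits_of_basic {D : Type*} [Category D] (G : FEt.Cat X ⥤ D)
    (h₀ : ∀ (Y : FEt.Cat X), IsInitial Y → Nonempty (IsInitial (G.obj Y)))
    (h₂ : ∀ A B : FEt.Cat X, Nonempty (IsColimit (BinaryCofan.mk (G.map (sumInl A B)) (G.map (sumInr A B)))))
    (h₁ : ∀ {U V : FEt.Cat X} (a b : U ⟶ V), Nonempty (IsColimit (Cofork.ofπ (G.map (coeqπ a b))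
      (by rw [← G.map_comp, coeq_condition, G.map_comp] : G.map a ≫ G.map (coeqπ a b) = G.map b ≫ G.map (coeqπ a b))))) :
    PreservesFiniteColimits G := by
  haveI := preservesInitial G h₀
  haveI : PreservesColimitsOfShape (Discrete WalkingPair) G := ⟨fun {K} => by
    haveI : PreservesColimit (pair (K.obj ⟨WalkingPair.left⟩) (K.obj ⟨WalkingPair.right⟩)) G :=
      preservesColimit_of_preserves_colimit_cocone (isColimitSum _ _)
        ((isColimitMapCoconeBinaryCofanEquiv G _ _).symm (h₂ _ _).some)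
    exact preservesColimit_of_iso_diagram G (diagramIsoPair K).symm⟩
  haveI : PreservesColimitsOfShape WalkingParallelPair G := ⟨fun {K} => by
    haveI : PreservesColimit (parallelPair (K.map WalkingParallelPairHom.left) (K.map WalkingParallelPairHom.right)) G :=
      preservesColimit_of_preserves_colimit_cocone (nonempty_isColimit_coeq _ _).some
        ((isColimitMapCoconeCoforkEquiv G (coeq_condition _ _)).symm (h₁ _ _).some)
    exact preservesColimit_of_iso_diagram G (diagramIsoParallelPair K).symm⟩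
  haveI : PreservesFiniteCoproducts G := ⟨fun n => preservesFiniteCoproductsOfPreservesBinaryAndInitial G (Fin n)⟩
  exact preservesFiniteColimits_of_preservesCoequalizers_and_finiteCoproducts G

theorem preservesFiniteColimits_restrict {X' : Scheme.{u}} (f : X' ⟶ X) :
    PreservesFiniteColimits (FEt.restrict f) := by
  refine preservesFiniteColimits_of_basic _ (fun Y hY => nonempty_isInitial _ fun Ω _ _ ξ => ?_)
    (fun A B => nonempty_isColimit_binary _ _ fun Ω _ _ ξ => ?_) fun {U V} a b => ?_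
  · haveI := isEmpty_fibre_initial hY (ξ ≫ f)
    exact (restrictFib f ξ Y).isEmpty
  · exact sum_transport (restrictFib f ξ _).symm (restrictFib f ξ A) (restrictFib f ξ B)
      (fun s => by rw [fmap, fmap, ← restrictFib_map, Equiv.symm_apply_apply])
      (fun s => by rw [fmap, fmap, ← restrictFib_map, Equiv.symm_apply_apply]) (isFibreSum_sum A B (ξ ≫ f))
  · refine isColimit_cofork _ _ _ _ (fun Ω _ _ ξ z => ?_) fun Ω _ _ ξ s t hst => ?_
    · obtain ⟨v, hv⟩ := (fibre_coeq a b (ξ ≫ f)).1 (restrictFib f ξ _ z)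
      refine ⟨(restrictFib f ξ V).symm v, (restrictFib f ξ _).injective ?_⟩
      rw [restrictFib_map, Equiv.apply_symm_apply, hv]
    · have h2 := (fibre_coeq a b (ξ ≫ f)).2 (restrictFib f ξ V s) (restrictFib f ξ V t)
        (by rw [← restrictFib_map, ← restrictFib_map, hst])
      have key : ∀ p q, Relation.EqvGen (fun s t => ∃ r : FEt.fiberObj (ξ ≫ f) U,
          (FEt.fiber (ξ ≫ f)).map a r = s ∧ (FEt.fiber (ξ ≫ f)).map b r = t) p q →
          Relation.EqvGen (fun s t => ∃ r : FEt.fiberObj ξ ((FEt.restrict f).obj U),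
            (FEt.fiber ξ).map ((FEt.restrict f).map a) r = s ∧ (FEt.fiber ξ).map ((FEt.restrict f).map b) r = t)
            ((restrictFib f ξ V).symm p) ((restrictFib f ξ V).symm q) := by
        intro p q h
        induction h with
        | rel p q h =>
          obtain ⟨r, rfl, rfl⟩ := h
          refine Relation.EqvGen.rel _ _ ⟨(restrictFib f ξ U).symm r, ?_, ?_⟩ <;>
            refine (restrictFib f ξ V).injective ?_ <;>
            rw [restrictFib_map, Equiv.apply_symm_apply, Equiv.apply_symm_apply]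
        | refl => exact Relation.EqvGen.refl _
        | symm _ _ _ ih => exact Relation.EqvGen.symm _ _ ih
        | trans _ _ _ _ _ i j => exact Relation.EqvGen.trans _ _ _ i j
      simpa using key _ _ h2

/-- A surjection of types whose kernel is generated by a parallel pair is a coequalizer. -/
def typesCofork {A B C : Type u} (f g : A ⟶ B) (π : B ⟶ C) (w : f ≫ π = g ≫ π)
    (hs : Function.Surjective π)
    (he : ∀ s t, π s = π t → Relation.EqvGen (fun s t => ∃ r, f r = s ∧ g r = t) s t) :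
    IsColimit (Cofork.ofπ π w) :=
  have key : ∀ (c : Cofork f g) (s t : B), Relation.EqvGen (fun s t => ∃ r, f r = s ∧ g r = t) s t →
      c.π s = c.π t := fun c s t h => by
    induction h with
    | rel s t h => obtain ⟨r, rfl, rfl⟩ := h; exact ConcreteCategory.congr_hom c.condition r
    | refl => rfl
    | symm _ _ _ ih => exact ih.symm
    | trans _ _ _ _ _ i j => exact i.trans j
  Cofork.IsColimit.mk _ (fun c => TypeCat.ofHom fun x => c.π (Function.surjInv hs x))
    (fun c => ConcreteCategory.hom_ext _ _ fun b => key c _ _ (he _ _ (Function.surjInv_eq hs (π b))))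
    fun c m hm => ConcreteCategory.hom_ext _ _ fun x => by
      have := ConcreteCategory.congr_hom hm (Function.surjInv hs x)
      exact (congrArg m (Function.surjInv_eq hs x)).symm.trans this

theorem preservesFiniteColimits_fiber {Ω : Type u} [Field Ω] [IsAlgClosed Ω] (ξ : Spec (CommRingCat.of Ω) ⟶ X) :
    PreservesFiniteColimits (FEt.fiber ξ) := by
  refine preservesFiniteColimits_of_basic _ (fun Y hY => ?_) (fun A B => ?_) fun {U V} a b => ?_
  · exact (Types.initial_iff_empty _).mpr (isEmpty_fibre_initial hY ξ)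
  · exact (Types.binaryCofan_isColimit_iff _).mpr (isFibreSum_sum A B ξ)
  · exact ⟨typesCofork _ _ _ _ (fibre_coeq a b ξ).1 (fibre_coeq a b ξ).2⟩

end FEtColim
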