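import Mathlib.RingTheory.Idempotents
import Mathlib.RingTheory.TotallySplit

/-!
# Pairs of algebra maps between split algebras

For algebra maps `φ ψ : (ι → R) → (κ → R)` the difference `D = φ - ψ` has a linear generalized inverse.
-/

set_option autoImplicit false
set_option linter.style.haveILetI false
universe u

namespace FEtColim

variable {R : Type u} [CommRing R] {ι κ : Type} [Fintype ι] [Fintype κ]

theorem exists_coeff (σ τ : κ → ι) {i k : ι}
    (h : Relation.EqvGen (fun a b => ∃ j, σ j = a ∧ τ j = b) i k) :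
    ∃ c : κ → R, ∀ x : ι → R, ∑ j, c j * (x (σ j) - x (τ j)) = x i - x k := by
  classical
  induction h with
  | rel a b h =>
    obtain ⟨j, rfl, rfl⟩ := h
    refine ⟨Pi.single j 1, fun x => ?_⟩
    rw [Finset.sum_eq_single j (fun b _ hb => by simp [Pi.single_eq_of_ne hb]) (by simp)]
    simp
  | refl a => exact ⟨0, fun x => by simp⟩
  | symm a b _ ih =>
    obtain ⟨c, hc⟩ := ih
    exact ⟨-c, fun x => by simp [hc x]⟩
  | trans a b d _ _ ih₁ ih₂ =>
    obtain ⟨c, hc⟩ := ih₁
    obtain ⟨c', hc'⟩ := ih₂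
    exact ⟨c + c', fun x => by simp [add_mul, Finset.sum_add_distrib, hc x, hc' x]⟩

/-- A generalized inverse of the difference of two maps given by maps of index sets. -/
theorem exists_inverse_of_maps (σ τ : κ → ι) :
    ∃ h : (κ → R) →ₗ[R] (ι → R), ∀ (x : ι → R) (j : κ),
      let y := h fun j => x (σ j) - x (τ j)
      y (σ j) - y (τ j) = x (σ j) - x (τ j) := by
  classical
  let s : Setoid ι := Relation.EqvGen.setoid fun a b => ∃ j, σ j = a ∧ τ j = b
  let r : ι → ι := fun i => (Quotient.mk s i).out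
  have hr : ∀ i, Relation.EqvGen (fun a b => ∃ j, σ j = a ∧ τ j = b) i (r i) :=
    fun i => Relation.EqvGen.symm _ _ (Quotient.mk_out (s := s) i)
  choose c hc using fun i => exists_coeff (R := R) σ τ (hr i)
  refine ⟨LinearMap.pi fun i => ∑ j, c i j • LinearMap.proj j, fun x j => ?_⟩
  have hy : ∀ i, (LinearMap.pi fun i => ∑ j, c i j • LinearMap.proj (R := R) (φ := fun _ : κ => R) j)
      (fun j => x (σ j) - x (τ j)) i = x i - x (r i) := fun i => by
    rw [LinearMap.pi_apply, LinearMap.sum_apply]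
    simpa using hc i x
  show _ - _ = _
  rw [hy, hy]
  have : r (σ j) = r (τ j) := congrArg Quotient.out
    (Quotient.sound (s := s) (Relation.EqvGen.rel _ _ ⟨j, rfl, rfl⟩))
  rw [this, sub_sub_sub_cancel_right]

/-- The idempotent attached to an algebra map between split algebras and a map of index sets. -/
def idem [DecidableEq ι] (φ : (ι → R) →ₐ[R] (κ → R)) (σ : κ → ι) : R := ∏ j, φ (Pi.single (σ j) 1) j

theorem sum_idem [DecidableEq ι] [DecidableEq κ] (φ : (ι → R) →ₐ[R] (κ → R)) :
    ∑ σ : κ → ι, idem φ σ = 1 := by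
  have h : ∀ j, ∑ i, φ (Pi.single i 1) j = 1 := fun j => by
    rw [← Finset.sum_apply, ← map_sum, Finset.univ_sum_single, show (fun _ : ι => (1 : R)) = 1 from rfl,
      map_one, Pi.one_apply]
  calc ∑ σ : κ → ι, idem φ σ = ∏ j, ∑ i, φ (Pi.single i 1) j :=
        (Fintype.prod_sum fun j i => φ (Pi.single i 1) j).symm
    _ = 1 := Finset.prod_eq_one fun j _ => h j

theorem idem_mul_apply [DecidableEq ι] [DecidableEq κ] (φ : (ι → R) →ₐ[R] (κ → R)) (σ : κ → ι)
    (x : ι → R) (j : κ) : idem φ σ * φ x j = idem φ σ * x (σ j) := by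
  have key : φ (Pi.single (σ j) 1) j * φ x j = φ (Pi.single (σ j) 1) j * x (σ j) := by
    rw [← Pi.mul_apply, ← map_mul,
      show (Pi.single (σ j) 1 : ι → R) * x = x (σ j) • Pi.single (σ j) 1 by
        ext i
        by_cases hi : i = σ j <;> simp [hi], map_smul, Pi.smul_apply, smul_eq_mul, mul_comm]
  rw [idem, ← Finset.mul_prod_erase _ _ (Finset.mem_univ j), mul_assoc, mul_assoc,
    mul_left_comm, key, mul_left_comm]

/-- The difference of two algebra maps between split algebras has a generalized inverse. -/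
theorem exists_inverse (φ ψ : (ι → R) →ₐ[R] (κ → R)) :
    ∃ h : (κ → R) →ₗ[R] (ι → R), ∀ x,
      (φ.toLinearMap - ψ.toLinearMap) (h ((φ.toLinearMap - ψ.toLinearMap) x)) =
        (φ.toLinearMap - ψ.toLinearMap) x := by
  classical
  choose h hh using fun p : (κ → ι) × (κ → ι) => exists_inverse_of_maps (R := R) p.1 p.2
  let e : (κ → ι) × (κ → ι) → R := fun p => idem φ p.1 * idem ψ p.2
  have he : ∑ p, e p = 1 := by
    rw [Fintype.sum_prod_type, ← one_mul (1 : R)]
    nth_rw 1 [← sum_idem φ]
    rw [← sum_idem ψ, Finset.sum_mul_sum]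
  let D : (ι → R) →ₗ[R] (κ → R) := φ.toLinearMap - ψ.toLinearMap
  have hD : ∀ p x, e p • D x = e p • fun j => x (p.1 j) - x (p.2 j) := fun p x => by
    ext j
    simp only [D, e, Pi.smul_apply, smul_eq_mul, LinearMap.sub_apply, AlgHom.toLinearMap_apply,
      Pi.sub_apply, mul_sub]
    congr 1
    · rw [mul_right_comm, idem_mul_apply, mul_right_comm]
    · rw [mul_assoc, idem_mul_apply, ← mul_assoc]
  refine ⟨∑ p, e p • h p, fun x => ?_⟩
  show D ((∑ p, e p • h p) (D x)) = D x
  conv_rhs => rw [← one_smul R (D x), ← he, Finset.sum_smul]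
  rw [LinearMap.sum_apply, map_sum]
  refine Finset.sum_congr rfl fun p _ => ?_
  rw [LinearMap.smul_apply, ← map_smul (h p), hD, map_smul, map_smul, hD]
  exact congrArg (e p • ·) (funext fun j => hh p x j)

end FEtColim
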