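import Mathlib
import Groth.Agent.FEtColimLib.Pi

/-!
# Equalizers of finite étale algebras

The equalizer of two maps of finite étale algebras is finite étale and commutes with every base change.
-/

set_option autoImplicit false
set_option linter.style.haveILetI false
universe u

open scoped TensorProduct

namespace FEtColim

variable {A : Type u} [CommRing A] {B C : Type u} [CommRing B] [CommRing C] [Algebra A B] [Algebra A C]

theorem finitePresentation_of_finite_etale (B : Type u) [CommRing B] [Algebra A B] [Module.Finite A B]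
    [Algebra.Etale A B] : Module.FinitePresentation A B :=
  Module.FinitePresentation.of_finite_of_finitePresentation A B

/-- Over a local ring two finite étale algebras are split by one faithfully flat extension. -/
theorem exists_split₂ [IsLocalRing A] [Module.Finite A B] [Algebra.Etale A B] [Module.Finite A C]
    [Algebra.Etale A C] : ∃ (T : Type u) (_ : CommRing T) (_ : Algebra A T),
      Module.FaithfullyFlat A T ∧ Algebra.IsFiniteSplit T (T ⊗[A] B) ∧ Algebra.IsFiniteSplit T (T ⊗[A] C) := by
  haveI : Module.Free A B := Module.free_of_flat_of_isLocalRing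
  haveI : Module.Free A C := Module.free_of_flat_of_isLocalRing
  obtain ⟨T₁, _, _, _, _, _, h₁⟩ := Algebra.IsFiniteSplit.exists_tensorProduct_of_etale (R := A) (S := B)
    (n := Module.finrank A B) (by rw [Module.rankAtStalk_eq_finrank_of_free])
  have hn : Module.rankAtStalk (R := T₁) (T₁ ⊗[A] C) = Module.finrank A C := by
    ext p
    rw [Module.rankAtStalk_baseChange, Module.rankAtStalk_eq_finrank_of_free]
    simp
  obtain ⟨T, _, _, _, _, _, h₂⟩ := Algebra.IsFiniteSplit.exists_tensorProduct_of_etale (R := T₁)
    (S := T₁ ⊗[A] C) (n := Module.finrank A C) hn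
  letI : Algebra A T := ((algebraMap T₁ T).comp (algebraMap A T₁)).toAlgebra
  haveI : IsScalarTower A T₁ T := IsScalarTower.of_algebraMap_eq fun _ => rfl
  refine ⟨T, inferInstance, inferInstance, Module.FaithfullyFlat.trans A T₁ T, ?_, ?_⟩
  · exact Algebra.IsFiniteSplit.of_algEquiv (Algebra.TensorProduct.cancelBaseChange A T₁ T T B)
  · exact Algebra.IsFiniteSplit.of_algEquiv (Algebra.TensorProduct.cancelBaseChange A T₁ T T C)

/-- The difference of two algebra maps. -/
def diff (φ ψ : B →ₐ[A] C) : B →ₗ[A] C := φ.toLinearMap - ψ.toLinearMap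

theorem diff_baseChange (T : Type u) [CommRing T] [Algebra A T] (φ ψ : B →ₐ[A] C) :
    (diff φ ψ).baseChange T = diff (Algebra.TensorProduct.map (AlgHom.id T T) φ)
      (Algebra.TensorProduct.map (AlgHom.id T T) ψ) := by
  apply TensorProduct.AlgebraTensorModule.ext
  intro t b
  simp [diff, TensorProduct.tmul_sub]

theorem exists_inverse_of_split [Algebra.IsFiniteSplit A B] [Algebra.IsFiniteSplit A C] (φ ψ : B →ₐ[A] C) :
    ∃ h : C →ₗ[A] B, ∀ x, diff φ ψ (h (diff φ ψ x)) = diff φ ψ x := by
  obtain ⟨n, ⟨eB⟩⟩ := Algebra.IsFiniteSplit.nonempty_algEquiv_fun A B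
  obtain ⟨m, ⟨eC⟩⟩ := Algebra.IsFiniteSplit.nonempty_algEquiv_fun A C
  obtain ⟨h, hh⟩ := exists_inverse ((eC.toAlgHom.comp φ).comp eB.symm.toAlgHom)
    ((eC.toAlgHom.comp ψ).comp eB.symm.toAlgHom)
  refine ⟨eB.symm.toLinearMap.comp (h.comp eC.toLinearMap), fun x => ?_⟩
  refine eC.injective ?_
  have := hh (eB x)
  simp only [diff, LinearMap.sub_apply, AlgHom.toLinearMap_apply, LinearMap.comp_apply,
    AlgHom.comp_apply, AlgEquiv.toLinearMap_apply, map_sub, AlgEquiv.coe_toAlgHom, AlgHom.coe_coe] at this ⊢
  simpa using this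

/-- A map with a generalized inverse has projective cokernel when the target is projective. -/
theorem projective_coker {R M N : Type u} [CommRing R] [AddCommGroup M] [AddCommGroup N] [Module R M]
    [Module R N] [Module.Projective R N] (D : M →ₗ[R] N) (h : N →ₗ[R] M) (hh : ∀ x, D (h (D x)) = D x) :
    Module.Projective R (N ⧸ LinearMap.range D) :=
  Module.Projective.of_split ((LinearMap.range D).liftQ (LinearMap.id - D.comp h) (by
      rintro _ ⟨x, rfl⟩
      simp [hh x]))
    (LinearMap.range D).mkQ (LinearMap.ext fun y => by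
      induction y using Submodule.Quotient.induction_on with
      | _ y => simp)

theorem flat_coker [Module.Finite A B] [Algebra.Etale A B] [Module.Finite A C] [Algebra.Etale A C]
    (φ ψ : B →ₐ[A] C) : Module.Flat A (C ⧸ LinearMap.range (diff φ ψ)) := by
  refine Module.flat_of_localized_maximal _ fun P _ => ?_
  let L := Localization.AtPrime P
  haveI : Module.Finite L (L ⊗[A] B) := inferInstance
  haveI : Algebra.Etale L (L ⊗[A] B) := inferInstance
  obtain ⟨T, _, _, hT, hB, hC⟩ := exists_split₂ (A := L) (B := L ⊗[A] B) (C := L ⊗[A] C)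
  letI : Algebra A T := ((algebraMap L T).comp (algebraMap A L)).toAlgebra
  haveI : IsScalarTower A L T := IsScalarTower.of_algebraMap_eq fun _ => rfl
  haveI := Algebra.IsFiniteSplit.of_algEquiv (Algebra.TensorProduct.cancelBaseChange A L T T B)
  haveI := Algebra.IsFiniteSplit.of_algEquiv (Algebra.TensorProduct.cancelBaseChange A L T T C)
  obtain ⟨h, hh⟩ := exists_inverse_of_split (A := T) (Algebra.TensorProduct.map (AlgHom.id T T) φ)
    (Algebra.TensorProduct.map (AlgHom.id T T) ψ)
  rw [← diff_baseChange] at hh
  haveI := projective_coker ((diff φ ψ).baseChange T) h hh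
  let q := (LinearMap.range (diff φ ψ)).mkQ
  have hex : Function.Exact (diff φ ψ) q := LinearMap.exact_map_mkQ_range _
  have hexT : Function.Exact ((diff φ ψ).baseChange T) (q.baseChange T) :=
    lTensor_exact T hex (Submodule.mkQ_surjective _)
  have e : ((T ⊗[A] C) ⧸ LinearMap.range ((diff φ ψ).baseChange T)) ≃ₗ[T]
      T ⊗[A] (C ⧸ LinearMap.range (diff φ ψ)) :=
    (Submodule.quotEquivOfEq _ _ (LinearMap.exact_iff.mp hexT).symm).trans
      ((q.baseChange T).quotKerEquivOfSurjective (LinearMap.lTensor_surjective T (Submodule.mkQ_surjective _)))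
  haveI : Module.Flat T (T ⊗[A] (C ⧸ LinearMap.range (diff φ ψ))) := Module.Flat.of_linearEquiv e.symm
  haveI : Module.Flat T (T ⊗[L] (L ⊗[A] (C ⧸ LinearMap.range (diff φ ψ)))) :=
    Module.Flat.of_linearEquiv (TensorProduct.AlgebraTensorModule.cancelBaseChange A L T T _)
  haveI := Module.Flat.of_flat_tensorProduct L (L ⊗[A] (C ⧸ LinearMap.range (diff φ ψ))) T
  haveI : Module.Flat A (L ⊗[A] (C ⧸ LinearMap.range (diff φ ψ))) := Module.Flat.trans A L _
  exact Module.Flat.of_linearEquiv ((LocalizedModule.equivTensorProduct P.primeCompl (C ⧸ LinearMap.range (diff φ ψ))).restrictScalars A)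

/-- The difference of two maps of finite étale algebras has a generalized inverse. -/
theorem exists_inverse_of_finiteEtale [Module.Finite A B] [Algebra.Etale A B] [Module.Finite A C]
    [Algebra.Etale A C] (φ ψ : B →ₐ[A] C) :
    ∃ h : C →ₗ[A] B, ∀ x, diff φ ψ (h (diff φ ψ x)) = diff φ ψ x := by
  haveI := finitePresentation_of_finite_etale (A := A) B
  haveI := finitePresentation_of_finite_etale (A := A) C
  haveI : Module.Projective A C := Module.Flat.projective_of_finitePresentation
  haveI := flat_coker φ ψ
  let R := LinearMap.range (diff φ ψ)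
  haveI : Module.FinitePresentation A (C ⧸ R) :=
    Module.finitePresentation_of_surjective R.mkQ R.mkQ_surjective (by
      rw [Submodule.ker_mkQ]
      haveI : Module.Finite A R := Module.Finite.range (diff φ ψ)
      exact Module.Finite.iff_fg.mp inferInstance)
  haveI : Module.Projective A (C ⧸ R) := Module.Flat.projective_of_finitePresentation
  obtain ⟨s, hs⟩ := R.mkQ.exists_rightInverse_of_surjective (Submodule.range_mkQ R)
  let r : C →ₗ[A] R := (LinearMap.id - s.comp R.mkQ).codRestrict R fun c => by
    refine (Submodule.Quotient.mk_eq_zero R).mp ?_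
    show R.mkQ _ = 0
    have := LinearMap.congr_fun hs (R.mkQ c)
    simp only [LinearMap.sub_apply, LinearMap.id_apply, LinearMap.comp_apply, map_sub] at this ⊢
    rw [this, sub_self]
  have hr : ∀ y : R, r y = y := fun y => Subtype.ext (by
    simp [r, (Submodule.Quotient.mk_eq_zero R).mpr y.2])
  haveI : Module.Projective A R := Module.Projective.of_split R.subtype r (LinearMap.ext hr)
  obtain ⟨t, ht⟩ := (diff φ ψ).rangeRestrict.exists_rightInverse_of_surjective
    (LinearMap.range_rangeRestrict _)
  refine ⟨t.comp r, fun x => ?_⟩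
  rw [LinearMap.comp_apply, show r (diff φ ψ x) = (diff φ ψ).rangeRestrict x from hr ⟨_, x, rfl⟩]
  exact congrArg Subtype.val (LinearMap.congr_fun ht ((diff φ ψ).rangeRestrict x))

theorem mem_equalizer_iff (φ ψ : B →ₐ[A] C) (x : B) : x ∈ AlgHom.equalizer φ ψ ↔ diff φ ψ x = 0 :=
  sub_eq_zero.symm

variable [Module.Finite A B] [Algebra.Etale A B] [Module.Finite A C] [Algebra.Etale A C] (φ ψ : B →ₐ[A] C)

/-- The equalizer is a direct summand of the source. -/
theorem exists_retraction : ∃ p : B →ₗ[A] AlgHom.equalizer φ ψ, ∀ x : AlgHom.equalizer φ ψ, p x = x := by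
  obtain ⟨h, hh⟩ := exists_inverse_of_finiteEtale φ ψ
  refine ⟨LinearMap.codRestrict (Subalgebra.toSubmodule (AlgHom.equalizer φ ψ))
    (LinearMap.id - h.comp (diff φ ψ)) fun x => ?_, fun x => Subtype.ext ?_⟩
  · show _ ∈ AlgHom.equalizer φ ψ
    rw [mem_equalizer_iff]
    simp [hh x]
  · show x.1 - h (diff φ ψ x.1) = x.1
    rw [(mem_equalizer_iff φ ψ x.1).mp x.2, map_zero, sub_zero]

theorem finite_equalizer : Module.Finite A (AlgHom.equalizer φ ψ) := by
  obtain ⟨p, hp⟩ := exists_retraction φ ψ
  exact Module.Finite.of_surjective p fun x => ⟨x, hp x⟩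

theorem injective_lTensor_val (T : Type u) [CommRing T] [Algebra A T] :
    Function.Injective (Algebra.TensorProduct.map (AlgHom.id T T) (AlgHom.equalizer φ ψ).val) := by
  obtain ⟨p, hp⟩ := exists_retraction φ ψ
  refine Function.LeftInverse.injective (g := p.baseChange T) fun z => ?_
  induction z using TensorProduct.induction_on with
  | zero => simp
  | tmul t x => simp [hp]
  | add z z' hz hz' => rw [map_add, map_add, hz, hz']

theorem tensorEqualizer_bijective (T : Type u) [CommRing T] [Algebra A T] :
    Function.Bijective (AlgHom.tensorEqualizer T T φ ψ) := by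
  refine ⟨fun a b hab => injective_lTensor_val φ ψ T ?_, fun z => ?_⟩
  · rw [← AlgHom.coe_tensorEqualizer, ← AlgHom.coe_tensorEqualizer, hab]
  obtain ⟨p, hp⟩ := exists_retraction φ ψ
  obtain ⟨h, hh⟩ := exists_inverse_of_finiteEtale φ ψ
  let q : B →ₗ[A] AlgHom.equalizer φ ψ := LinearMap.codRestrict (Subalgebra.toSubmodule (AlgHom.equalizer φ ψ))
    (LinearMap.id - h.comp (diff φ ψ)) fun x => by
      show _ ∈ AlgHom.equalizer φ ψ
      rw [mem_equalizer_iff]
      simp [hh x]
  refine ⟨q.baseChange T z.1, Subtype.ext ?_⟩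
  have hz : (diff φ ψ).baseChange T z.1 = 0 := by
    rw [diff_baseChange]
    exact (mem_equalizer_iff _ _ _).mp z.2
  have key : ∀ w, Algebra.TensorProduct.map (AlgHom.id T T) (AlgHom.equalizer φ ψ).val (q.baseChange T w) =
      w - h.baseChange T ((diff φ ψ).baseChange T w) := fun w => by
    induction w using TensorProduct.induction_on with
    | zero => simp
    | tmul t x =>
      simp only [LinearMap.baseChange_tmul, Algebra.TensorProduct.map_tmul, AlgHom.coe_id, id_eq]
      rw [← TensorProduct.tmul_sub]
      rfl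
    | add w w' hw hw' => rw [map_add, map_add, map_add, map_add, hw, hw']; abel
  rw [AlgHom.coe_tensorEqualizer, key, hz, map_zero, sub_zero]

theorem etale_equalizer : Algebra.Etale A (AlgHom.equalizer φ ψ) := by
  let E := AlgHom.equalizer φ ψ
  haveI : Module.Finite A E := finite_equalizer φ ψ
  obtain ⟨p, hp⟩ := exists_retraction φ ψ
  haveI := finitePresentation_of_finite_etale (A := A) B
  haveI : Module.Projective A B := Module.Flat.projective_of_finitePresentation
  haveI : Module.Projective A E :=
    Module.Projective.of_split E.val.toLinearMap p (LinearMap.ext hp)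
  haveI : Module.FinitePresentation A E := Module.finitePresentation_of_projective A E
  haveI : Algebra.FinitePresentation A E := inferInstance
  haveI : Module.Flat A E := inferInstance
  haveI : Algebra.FormallyUnramified A E := by
    haveI : Module.Finite A Ω[E⁄A] := Module.Finite.trans E _
    refine ⟨?_⟩
    rw [← Module.support_eq_empty_iff (R := A)]
    refine Set.eq_empty_of_forall_notMem fun q hq => ?_
    rw [Module.mem_support_iff_nontrivial_residueField_tensorProduct] at hq
    let K := q.asIdeal.ResidueField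
    let Kb := AlgebraicClosure K
    haveI : Algebra.Etale Kb (Kb ⊗[A] E) := by
      haveI : IsReduced (Kb ⊗[A] B) := by
        obtain ⟨I, _, Ai, _, _, e, -⟩ := (Algebra.Etale.iff_exists_algEquiv_prod Kb (Kb ⊗[A] B)).mp inferInstance
        exact isReduced_of_injective e e.injective
      haveI : IsReduced (Kb ⊗[A] E) := isReduced_of_injective _ (injective_lTensor_val φ ψ Kb)
      haveI : IsArtinianRing (Kb ⊗[A] E) := isArtinian_of_tower Kb inferInstance
      refine (Algebra.Etale.iff_exists_algEquiv_prod Kb _).mpr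
        ⟨MaximalSpectrum (Kb ⊗[A] E), inferInstance, fun m => (Kb ⊗[A] E) ⧸ m.asIdeal,
          fun m => Ideal.Quotient.field m.asIdeal, fun m => inferInstance,
          (IsArtinianRing.equivPi (Kb ⊗[A] E)).restrictScalars Kb, fun m => ?_⟩
      letI := Ideal.Quotient.field m.asIdeal
      exact ⟨inferInstance, inferInstance⟩
    haveI : Subsingleton (Kb ⊗[A] Ω[E⁄A]) := by
      letI : Algebra E (Kb ⊗[A] E) := Algebra.TensorProduct.rightAlgebra
      exact (KaehlerDifferential.tensorKaehlerEquivBase A Kb E (Kb ⊗[A] E)).toEquiv.subsingleton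
    haveI : Subsingleton (Kb ⊗[K] (K ⊗[A] Ω[E⁄A])) :=
      (TensorProduct.AlgebraTensorModule.cancelBaseChange A K Kb Kb Ω[E⁄A]).toEquiv.subsingleton
    exact not_subsingleton (K ⊗[A] Ω[E⁄A])
      (Module.FaithfullyFlat.lTensor_reflects_triviality K Kb (K ⊗[A] Ω[E⁄A]))
  exact Algebra.Etale.of_formallyUnramified_of_flat

end FEtColim
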