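import Mathlib
import Groth.Agent.FEtColimLib.Alg

/-!
# Geometric points of equalizers of finite étale algebras
-/

set_option autoImplicit false
set_option linter.style.haveILetI false
universe u

open scoped TensorProduct

namespace FEtColim

variable {A : Type u} [CommRing A] {B C : Type u} [CommRing B] [CommRing C] [Algebra A B] [Algebra A C]
  {Ω : Type u} [Field Ω] [Algebra A Ω] [IsAlgClosed Ω]
  [Module.Finite A B] [Algebra.Etale A B] [Module.Finite A C] [Algebra.Etale A C] (φ ψ : B →ₐ[A] C)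

/-- Every geometric point of the equalizer lifts to the source. -/
theorem exists_lift (χ : AlgHom.equalizer φ ψ →ₐ[A] Ω) :
    ∃ s : B →ₐ[A] Ω, s.comp (AlgHom.equalizer φ ψ).val = χ := by
  let E := AlgHom.equalizer φ ψ
  haveI : IsScalarTower A E B := IsScalarTower.of_algebraMap_eq fun _ => rfl
  letI : Algebra E Ω := χ.toRingHom.toAlgebra
  haveI : IsScalarTower A E Ω := IsScalarTower.of_algebraMap_eq fun r => (χ.commutes r).symm
  haveI : Module.Finite E B := Module.Finite.of_restrictScalars_finite A E B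
  haveI : Algebra.IsIntegral E B := Algebra.IsIntegral.of_finite E B
  haveI : (RingHom.ker (algebraMap E Ω)).IsPrime := RingHom.ker_isPrime _
  have hinj : Function.Injective (algebraMap E B) := Subtype.val_injective
  obtain ⟨Q, -, hQ, hQp⟩ := Ideal.exists_ideal_over_prime_of_isIntegral (RingHom.ker (algebraMap E Ω)) (⊥ : Ideal B)
    (by rw [← RingHom.ker_eq_comap_bot, (RingHom.injective_iff_ker_eq_bot _).mp hinj]; exact bot_le)
  haveI := hQ
  haveI : Q.LiesOver (RingHom.ker (algebraMap E Ω)) := ⟨hQp.symm⟩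
  let p := RingHom.ker (algebraMap E Ω)
  letI : Algebra (FractionRing (E ⧸ p)) Ω :=
    (IsFractionRing.lift (A := E ⧸ p) (K := FractionRing (E ⧸ p)) (g := Ideal.Quotient.lift p (algebraMap E Ω) fun _ h => h)
      (RingHom.lift_injective_of_ker_le_ideal p (fun _ h => h) le_rfl)).toAlgebra
  letI : Algebra (E ⧸ p) Ω := (Ideal.Quotient.lift p (algebraMap E Ω) fun _ h => h).toAlgebra
  haveI : FaithfulSMul (E ⧸ p) Ω := (faithfulSMul_iff_algebraMap_injective _ _).mpr
    (RingHom.lift_injective_of_ker_le_ideal p (fun _ h => h) le_rfl)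
  haveI : IsScalarTower E (E ⧸ p) Ω := ⟨fun e z w => by
    obtain ⟨z, rfl⟩ := Ideal.Quotient.mk_surjective z
    rw [show e • Ideal.Quotient.mk p z = Ideal.Quotient.mk p (e * z) from rfl]
    show algebraMap E Ω (e * z) * w = algebraMap E Ω e * (algebraMap E Ω z * w)
    rw [map_mul, mul_assoc]⟩
  haveI : Algebra.IsIntegral (E ⧸ p) (B ⧸ Q) := inferInstance
  haveI : Module.IsTorsionFree (E ⧸ p) Ω := inferInstance
  haveI : Algebra.IsAlgebraic (E ⧸ p) (B ⧸ Q) := inferInstance
  haveI : IsDomain (B ⧸ Q) := inferInstance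
  haveI : Module.IsTorsionFree (E ⧸ p) (B ⧸ Q) := inferInstance
  let g : (B ⧸ Q) →ₐ[E ⧸ p] Ω := IsAlgClosed.lift
  let s : B →ₐ[E] Ω := (g.restrictScalars E).comp (Ideal.Quotient.mkₐ E Q)
  exact ⟨s.restrictScalars A, AlgHom.ext fun x => s.commutes x⟩

/-- An algebra map from a split algebra to the base field is a projection. -/
theorem exists_eq_proj {n : ℕ} (f : (Fin n → Ω) →ₐ[Ω] Ω) : ∃ i, ∀ x, f x = x i := by
  classical
  obtain ⟨i, hi⟩ : ∃ i, f (Pi.single i 1) ≠ 0 := by
    by_contra! hne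
    have h1 : f (∑ i, Pi.single i 1) = 0 := by rw [map_sum]; exact Finset.sum_eq_zero fun i _ => hne i
    rw [Finset.univ_sum_single, show (fun _ : Fin n => (1 : Ω)) = 1 from rfl, map_one] at h1
    exact one_ne_zero h1
  refine ⟨i, fun x => mul_left_cancel₀ hi ?_⟩
  rw [← map_mul, show (Pi.single i 1 : Fin n → Ω) * x = x i • Pi.single i 1 by
    ext j
    by_cases hj : j = i <;> simp [hj], map_smul, smul_eq_mul, mul_comm]

/-- Geometric points of the source with the same restriction to the equalizer are equivalent. -/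
theorem eqvGen_of_eq (s t : B →ₐ[A] Ω)
    (h : s.comp (AlgHom.equalizer φ ψ).val = t.comp (AlgHom.equalizer φ ψ).val) :
    Relation.EqvGen (fun s t => ∃ r : C →ₐ[A] Ω, r.comp φ = s ∧ r.comp ψ = t) s t := by
  classical
  by_contra hne
  obtain ⟨n, ⟨eB⟩⟩ := Algebra.IsFiniteSplit.nonempty_algEquiv_fun Ω (Ω ⊗[A] B)
  obtain ⟨m, ⟨eC⟩⟩ := Algebra.IsFiniteSplit.nonempty_algEquiv_fun Ω (Ω ⊗[A] C)
  let pt : Fin n → (B →ₐ[A] Ω) := fun i => ((((Pi.evalAlgHom Ω (fun _ => Ω) i).comp eB.toAlgHom).restrictScalars A).comp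
    Algebra.TensorProduct.includeRight)
  let rel : (B →ₐ[A] Ω) → (B →ₐ[A] Ω) → Prop := fun s t => ∃ r : C →ₐ[A] Ω, r.comp φ = s ∧ r.comp ψ = t
  let x : Ω ⊗[A] B := eB.symm fun i => if Relation.EqvGen rel s (pt i) then 1 else 0
  have hev : ∀ (u : B →ₐ[A] Ω), Algebra.TensorProduct.lift (Algebra.ofId Ω Ω) u (fun _ _ => Commute.all _ _) x =
      if Relation.EqvGen rel s u then 1 else 0 := by
    intro u
    let L : Ω ⊗[A] B →ₐ[Ω] Ω := Algebra.TensorProduct.lift (Algebra.ofId Ω Ω) u (fun _ _ => Commute.all _ _)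
    obtain ⟨i, hi⟩ := exists_eq_proj (L.comp eB.symm.toAlgHom)
    have hu : pt i = u := AlgHom.ext fun b => by
      have h2 := hi (eB ((1 : Ω) ⊗ₜ b))
      simp only [AlgHom.comp_apply, AlgEquiv.coe_toAlgHom, AlgEquiv.symm_apply_apply, L,
        Algebra.TensorProduct.lift_tmul, map_one, one_mul] at h2
      simp only [pt, AlgHom.comp_apply, AlgHom.restrictScalars_apply, Algebra.TensorProduct.includeRight_apply,
        Pi.evalAlgHom_apply, AlgEquiv.coe_toAlgHom]
      exact h2.symm
    exact (hi _).trans (by rw [hu])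
  have hx : x ∈ AlgHom.equalizer (Algebra.TensorProduct.map (AlgHom.id Ω Ω) φ)
      (Algebra.TensorProduct.map (AlgHom.id Ω Ω) ψ) := by
    show _ = _
    refine eC.injective (funext fun j => ?_)
    let r : C →ₐ[A] Ω := (((Pi.evalAlgHom Ω (fun _ => Ω) j).comp eC.toAlgHom).restrictScalars A).comp
      Algebra.TensorProduct.includeRight
    have hr : ∀ (χ : B →ₐ[A] C) (z : Ω ⊗[A] B),
        eC (Algebra.TensorProduct.map (AlgHom.id Ω Ω) χ z) j =
          Algebra.TensorProduct.lift (Algebra.ofId Ω Ω) (r.comp χ) (fun _ _ => Commute.all _ _) z := by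
      intro χ z
      induction z using TensorProduct.induction_on with
      | zero => simp
      | tmul o b =>
        rw [Algebra.TensorProduct.map_tmul, Algebra.TensorProduct.lift_tmul,
          show ((AlgHom.id Ω Ω) o ⊗ₜ[A] χ b : Ω ⊗[A] C) = o • ((1 : Ω) ⊗ₜ[A] χ b) by
            rw [TensorProduct.smul_tmul', smul_eq_mul, mul_one, AlgHom.id_apply], map_smul]
        rfl
      | add z z' hz hz' => simp only [map_add, Pi.add_apply, hz, hz']
    rw [hr, hr, hev, hev]
    have hiff : Relation.EqvGen rel s (r.comp φ) ↔ Relation.EqvGen rel s (r.comp ψ) :=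
      ⟨fun h1 => Relation.EqvGen.trans _ _ _ h1 (Relation.EqvGen.rel _ _ ⟨r, rfl, rfl⟩),
        fun h1 => Relation.EqvGen.trans _ _ _ h1 (Relation.EqvGen.symm _ _ (Relation.EqvGen.rel _ _ ⟨r, rfl, rfl⟩))⟩
    simp only [hiff]
  obtain ⟨w, hw⟩ := (tensorEqualizer_bijective φ ψ Ω).2 ⟨x, hx⟩
  have hagree : ∀ w : Ω ⊗[A] AlgHom.equalizer φ ψ,
      Algebra.TensorProduct.lift (Algebra.ofId Ω Ω) s (fun _ _ => Commute.all _ _)
        (Algebra.TensorProduct.map (AlgHom.id Ω Ω) (AlgHom.equalizer φ ψ).val w) =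
      Algebra.TensorProduct.lift (Algebra.ofId Ω Ω) t (fun _ _ => Commute.all _ _)
        (Algebra.TensorProduct.map (AlgHom.id Ω Ω) (AlgHom.equalizer φ ψ).val w) := by
    intro w
    induction w using TensorProduct.induction_on with
    | zero => simp
    | tmul o b =>
      rw [Algebra.TensorProduct.map_tmul, Algebra.TensorProduct.lift_tmul, Algebra.TensorProduct.lift_tmul]
      exact congrArg _ (AlgHom.congr_fun h b)
    | add z z' hz hz' => simp only [map_add, hz, hz']
  have hst := hagree w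
  rw [← AlgHom.coe_tensorEqualizer, hw] at hst
  simp only at hst
  rw [hev, hev, if_pos (Relation.EqvGen.refl s), if_neg hne] at hst
  exact one_ne_zero hst

end FEtColim
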