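import Groth.Agent.FEtColimLib.Glue

/-!
# Coequalizers in the category of finite étale covers
-/

set_option autoImplicit false
set_option linter.style.haveILetI false
universe u

open CategoryTheory CategoryTheory.Limits AlgebraicGeometry Opposite

noncomputable section

namespace FEtColim

variable {X : Scheme.{u}} {U V : FEt.Cat X} (a b : U ⟶ V) {Ω : Type u} [Field Ω]
  (ξ : Spec (CommRingCat.of Ω) ⟶ X)

theorem range_point {T : Scheme.{u}} (s : Spec (CommRingCat.of Ω) ⟶ T) :
    Set.range s = {s (IsLocalRing.closedPoint Ω)} := by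
  ext x
  simp only [Set.mem_range, Set.mem_singleton_iff]
  exact ⟨fun ⟨p, hp⟩ => by rw [← hp, Subsingleton.elim p (IsLocalRing.closedPoint Ω)], fun h => ⟨_, h.symm⟩⟩

theorem exists_affine : ∃ (W : X.AffineZariskiSite) (α : Γ(X, W.1) ⟶ CommRingCat.of Ω),
    Spec.map α ≫ W.2.fromSpec = ξ := by
  obtain ⟨_, ⟨W, hW, rfl⟩, hx, -⟩ :=
    X.isBasis_affineOpens.exists_subset_of_mem_open (Set.mem_univ (ξ (IsLocalRing.closedPoint Ω))) isOpen_univ
  have hr : Set.range ξ ⊆ Set.range hW.fromSpec := by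
    rw [range_point, hW.range_fromSpec, Set.singleton_subset_iff]
    exact hx
  exact ⟨⟨W, hW⟩, Spec.preimage (IsOpenImmersion.lift hW.fromSpec ξ hr), by
    rw [Spec.map_preimage, IsOpenImmersion.lift_fac]⟩

theorem exists_point (Y : FEt.Cat X) {W : X.AffineZariskiSite} {α : Γ(X, W.1) ⟶ CommRingCat.of Ω}
    (hα : Spec.map α ≫ W.2.fromSpec = ξ) (s : FEt.fiberObj ξ Y) :
    ∃ χ : Γ(Y.left, str Y ⁻¹ᵁ W.1) ⟶ CommRingCat.of Ω,
      Spec.map χ ≫ (isAffineOpen_pre Y W.2).fromSpec = s.1 ∧ (str Y).app W.1 ≫ χ = α := by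
  have hr : Set.range s.1 ⊆ Set.range (isAffineOpen_pre Y W.2).fromSpec := by
    rw [range_point, (isAffineOpen_pre Y W.2).range_fromSpec, Set.singleton_subset_iff]
    show str Y (s.1 (IsLocalRing.closedPoint Ω)) ∈ W.1
    rw [← Scheme.Hom.comp_apply, show s.1 ≫ str Y = ξ from s.2, ← hα, Scheme.Hom.comp_apply]
    exact W.2.range_fromSpec.subset (Set.mem_range_self _)
  refine ⟨Spec.preimage (IsOpenImmersion.lift (isAffineOpen_pre Y W.2).fromSpec s.1 hr), ?_, ?_⟩
  · rw [Spec.map_preimage, IsOpenImmersion.lift_fac]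
  · refine Spec.map_injective ?_
    rw [← cancel_mono W.2.fromSpec, hα, Spec.map_comp, Category.assoc, Scheme.Hom.app_eq_appLE,
      W.2.SpecMap_appLE_fromSpec (str Y) (isAffineOpen_pre Y W.2) le_rfl, Spec.map_preimage,
      IsOpenImmersion.lift_fac_assoc]
    exact s.2

theorem point_map {Y Z : FEt.Cat X} (g : Y ⟶ Z) (W : X.AffineZariskiSite)
    {T : CommRingCat.{u}} (χ : Γ(Y.left, str Y ⁻¹ᵁ W.1) ⟶ T) :
    Spec.map χ ≫ (isAffineOpen_pre Y W.2).fromSpec ≫ g.left =
      Spec.map (secMap g W.1 ≫ χ) ≫ (isAffineOpen_pre Z W.2).fromSpec := by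
  rw [Spec.map_comp, Category.assoc,
    (isAffineOpen_pre Z W.2).SpecMap_appLE_fromSpec g.left (isAffineOpen_pre Y W.2) (le_preimage g W.1)]

/-- The inclusion of the equalizer. -/
abbrev incl (W : X.Opens) : (diagram a b).obj (op W) ⟶ Γ(V.left, str V ⁻¹ᵁ W) :=
  CommRingCat.ofHom (((secMap a W).hom.eqLocus (secMap b W).hom).subtype)

theorem incl_secMap (W : X.Opens) : incl a b W ≫ secMap a W = incl a b W ≫ secMap b W := by
  ext x
  exact x.2

theorem coeq_condition : a ≫ coeqπ a b = b ≫ coeqπ a b := by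
  refine hom_ext_of_fibre _ _ fun Ω _ _ ξ r => ?_
  obtain ⟨W, α, hα⟩ := exists_affine ξ
  obtain ⟨χ, hχ, -⟩ := exists_point ξ U hα r
  refine Subtype.ext ?_
  rw [map_val, map_val]
  show r.1 ≫ a.left ≫ coeqMap a b = r.1 ≫ b.left ≫ coeqMap a b
  rw [← hχ, Category.assoc, Category.assoc, reassoc_of% (point_map a W χ), reassoc_of% (point_map b W χ),
    fromSpec_coeqMap, ← Spec.map_comp_assoc, ← Spec.map_comp_assoc]
  congr 2
  show incl a b W.1 ≫ secMap a W.1 ≫ χ = incl a b W.1 ≫ secMap b W.1 ≫ χ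
  rw [← Category.assoc, incl_secMap, Category.assoc]

variable [IsAlgClosed Ω]

theorem fibre_coeq : Function.Surjective ((FEt.fiber ξ).map (coeqπ a b) : FEt.fiberObj ξ V → FEt.fiberObj ξ (coeq a b)) ∧
    ∀ s t : FEt.fiberObj ξ V, (FEt.fiber ξ).map (coeqπ a b) s = (FEt.fiber ξ).map (coeqπ a b) t →
      Relation.EqvGen (fun s t => ∃ r : FEt.fiberObj ξ U, (FEt.fiber ξ).map a r = s ∧ (FEt.fiber ξ).map b r = t) s t := by
  obtain ⟨W, α, hα⟩ := exists_affine ξ
  haveI : IsOpenImmersion (chart a b W) :=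
    MorphismProperty.of_isPullback (isPullback_chart a b W) (inferInstance : IsOpenImmersion W.1.ι)
  let A := Γ(X, W.1)
  let B := Γ(V.left, str V ⁻¹ᵁ W.1)
  let C := Γ(U.left, str U ⁻¹ᵁ W.1)
  letI := ((str V).app W.1).hom.toAlgebra
  letI := ((str U).app W.1).hom.toAlgebra
  letI : Algebra A Ω := α.hom.toAlgebra
  haveI : Module.Finite A B := (finite_etale_app V W.2).1
  haveI : Algebra.Etale A B := (finite_etale_app V W.2).2
  haveI : Module.Finite A C := (finite_etale_app U W.2).1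
  haveI : Algebra.Etale A C := (finite_etale_app U W.2).2
  let φ : B →ₐ[A] C := ⟨(secMap a W.1).hom, fun r => ConcreteCategory.congr_hom (str_secMap a W.1) r⟩
  let ψ : B →ₐ[A] C := ⟨(secMap b W.1).hom, fun r => ConcreteCategory.congr_hom (str_secMap b W.1) r⟩
  have toAlg : ∀ {S : Type u} [CommRing S] [Algebra A S] (χ : CommRingCat.of S ⟶ CommRingCat.of Ω),
      CommRingCat.ofHom (algebraMap A S) ≫ χ = α → ∃ c : S →ₐ[A] Ω, (c : S →+* Ω) = χ.hom :=
    fun χ h => ⟨⟨χ.hom, fun r => ConcreteCategory.congr_hom h r⟩, rfl⟩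
  refine ⟨fun (z : FEt.fiberObj ξ (coeq a b)) => ?_, fun (s t : FEt.fiberObj ξ V) hst => ?_⟩
  · have hr : Set.range ξ ⊆ (W.1 : Set X) := by
      rw [range_point, Set.singleton_subset_iff, ← hα, Scheme.Hom.comp_apply]
      exact W.2.range_fromSpec.subset (Set.mem_range_self _)
    obtain ⟨l, hl⟩ := range_chart a b W z.1
      ((congrArg (fun f : Spec (CommRingCat.of Ω) ⟶ X => Set.range f) z.2).subset.trans hr)
    obtain ⟨c, rfl⟩ := Spec.map_surjective l
    have hc : (diagramMap a b).app (op W.1) ≫ c = α := by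
      refine Spec.map_injective ?_
      rw [← cancel_mono W.2.fromSpec, hα, Spec.map_comp, Category.assoc, ← chart_hom, reassoc_of% hl]
      exact z.2
    let χE : AlgHom.equalizer φ ψ →ₐ[A] Ω :=
      { toFun := fun x => c.hom ⟨x.1, x.2⟩
        map_one' := map_one c.hom
        map_mul' := fun x y => map_mul c.hom ⟨x.1, x.2⟩ ⟨y.1, y.2⟩
        map_zero' := map_zero c.hom
        map_add' := fun x y => map_add c.hom ⟨x.1, x.2⟩ ⟨y.1, y.2⟩
        commutes' := fun r => ConcreteCategory.congr_hom hc r }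
    obtain ⟨s, hs⟩ := exists_lift φ ψ χE
    let χ : B ⟶ CommRingCat.of Ω := CommRingCat.ofHom s.toRingHom
    refine ⟨⟨Spec.map χ ≫ (isAffineOpen_pre V W.2).fromSpec, ?_⟩, Subtype.ext ?_⟩
    · show (_ ≫ _) ≫ str V = ξ
      rw [Category.assoc, ← W.2.SpecMap_appLE_fromSpec (str V) (isAffineOpen_pre V W.2) le_rfl,
        ← Spec.map_comp_assoc, ← Scheme.Hom.app_eq_appLE,
        show (str V).app W.1 ≫ χ = α from CommRingCat.hom_ext (RingHom.ext fun r => s.commutes r), hα]
    · rw [map_val]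
      show (_ ≫ _) ≫ coeqMap a b = z.1
      rw [Category.assoc, fromSpec_coeqMap, ← Spec.map_comp_assoc, ← hl]
      congr 2
      exact CommRingCat.hom_ext (RingHom.ext fun x => AlgHom.congr_fun hs ⟨x.1, x.2⟩)
  · obtain ⟨χs, hχs, hs'⟩ := exists_point ξ V hα s
    obtain ⟨χt, hχt, ht'⟩ := exists_point ξ V hα t
    obtain ⟨cs, hcs⟩ := toAlg (S := B) χs hs'
    obtain ⟨ct, hct⟩ := toAlg (S := B) χt ht'
    have hincl : incl a b W.1 ≫ χs = incl a b W.1 ≫ χt := by
      refine Spec.map_injective ?_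
      rw [← cancel_mono (chart a b W)]
      have h := congrArg Subtype.val hst
      rw [map_val, map_val] at h
      change s.1 ≫ coeqMap a b = t.1 ≫ coeqMap a b at h
      rw [← hχs, ← hχt, Category.assoc, Category.assoc, fromSpec_coeqMap, ← Spec.map_comp_assoc,
        ← Spec.map_comp_assoc] at h
      exact h
    have hgen := eqvGen_of_eq φ ψ cs ct (AlgHom.ext fun x => by
      show (cs : B →+* Ω) x.1 = (ct : B →+* Ω) x.1
      rw [hcs, hct]
      exact ConcreteCategory.congr_hom hincl ⟨x.1, x.2⟩)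
    let P : (B →ₐ[A] Ω) → FEt.fiberObj ξ V := fun c =>
      ⟨Spec.map (CommRingCat.ofHom c.toRingHom) ≫ (isAffineOpen_pre V W.2).fromSpec, by
        show (_ ≫ _) ≫ str V = ξ
        rw [Category.assoc, ← W.2.SpecMap_appLE_fromSpec (str V) (isAffineOpen_pre V W.2) le_rfl,
          ← Spec.map_comp_assoc, ← Scheme.Hom.app_eq_appLE,
          show (str V).app W.1 ≫ CommRingCat.ofHom c.toRingHom = α from
            CommRingCat.hom_ext (RingHom.ext fun r => c.commutes r), hα]⟩
    have key : ∀ c c', Relation.EqvGen (fun c c' => ∃ r : C →ₐ[A] Ω, r.comp φ = c ∧ r.comp ψ = c') c c' →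
        Relation.EqvGen (fun s t => ∃ r : FEt.fiberObj ξ U, (FEt.fiber ξ).map a r = s ∧ (FEt.fiber ξ).map b r = t)
          (P c) (P c') := by
      intro c c' h
      induction h with
      | rel c c' h =>
        obtain ⟨r, rfl, rfl⟩ := h
        refine Relation.EqvGen.rel _ _ ⟨⟨Spec.map (CommRingCat.ofHom r.toRingHom) ≫ (isAffineOpen_pre U W.2).fromSpec, ?_⟩, ?_, ?_⟩
        · show (_ ≫ _) ≫ str U = ξ
          rw [Category.assoc, ← W.2.SpecMap_appLE_fromSpec (str U) (isAffineOpen_pre U W.2) le_rfl,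
            ← Spec.map_comp_assoc, ← Scheme.Hom.app_eq_appLE,
            show (str U).app W.1 ≫ CommRingCat.ofHom r.toRingHom = α from
              CommRingCat.hom_ext (RingHom.ext fun x => r.commutes x), hα]
        · exact Subtype.ext ((Category.assoc _ _ _).trans (point_map a W _))
        · exact Subtype.ext ((Category.assoc _ _ _).trans (point_map b W _))
      | refl => exact Relation.EqvGen.refl _
      | symm _ _ _ ih => exact Relation.EqvGen.symm _ _ ih
      | trans _ _ _ _ _ i j => exact Relation.EqvGen.trans _ _ _ i j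
    have hPs : P cs = s := Subtype.ext (by
      show Spec.map (CommRingCat.ofHom (cs : B →+* Ω)) ≫ _ = s.1
      rw [hcs]
      exact hχs)
    have hPt : P ct = t := Subtype.ext (by
      show Spec.map (CommRingCat.ofHom (ct : B →+* Ω)) ≫ _ = t.1
      rw [hct]
      exact hχt)
    rw [← hPs, ← hPt]
    exact key cs ct hgen

/-- The coequalizer is a coequalizer. -/
theorem nonempty_isColimit_coeq : Nonempty (IsColimit (Cofork.ofπ (coeqπ a b) (coeq_condition a b))) :=
  isColimit_cofork a b _ _ (fun Ω _ _ ξ => (fibre_coeq a b ξ).1) fun Ω _ _ ξ => (fibre_coeq a b ξ).2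

end FEtColim
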