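import Groth.Prelude.Def_FEt
import Groth.Agent.FFDescLib.EtaleGraph
import Mathlib.AlgebraicGeometry.Sites.Fpqc
import Mathlib.AlgebraicGeometry.Morphisms.UniversallyInjective
import Mathlib.FieldTheory.IsAlgClosed.AlgebraicClosure

/-!
# Finite étale covers are governed by their geometric fibres
-/

set_option autoImplicit false
set_option linter.style.haveILetI false
universe u

open CategoryTheory CategoryTheory.Limits AlgebraicGeometry

namespace FEtColim

theorem exists_geomPt (T : Scheme.{u}) (x : T) : ∃ (Ω : Type u) (_ : Field Ω) (_ : IsAlgClosed Ω)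
    (s : Spec (CommRingCat.of Ω) ⟶ T), ∀ p, s p = x := by
  let K : Type u := T.residueField x
  let ι : CommRingCat.of K ⟶ CommRingCat.of (AlgebraicClosure K) :=
    CommRingCat.ofHom (algebraMap K (AlgebraicClosure K))
  refine ⟨AlgebraicClosure K, inferInstance, inferInstance, Spec.map ι ≫ T.fromSpecResidueField x, fun p => ?_⟩
  rw [Scheme.Hom.comp_apply]
  exact Scheme.fromSpecResidueField_apply x (Spec.map ι p)

/-- Morphisms into an unramified scheme agreeing on all geometric points are equal. -/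
theorem ext_of_geomPt {X T W : Scheme.{u}} (h : W ⟶ X) [FormallyUnramified h] [LocallyOfFiniteType h]
    (f g : T ⟶ W) (w : f ≫ h = g ≫ h)
    (H : ∀ (Ω : Type u) [Field Ω] [IsAlgClosed Ω] (s : Spec (CommRingCat.of Ω) ⟶ T), s ≫ f = s ≫ g) :
    f = g := by
  let p := pullback.fst (pullback.lift f g w) (pullback.diagonal h)
  haveI : Surjective p := ⟨fun x => by
    obtain ⟨Ω, _, _, s, hs⟩ := exists_geomPt T x
    let z : Spec (CommRingCat.of Ω) ⟶ pullback (pullback.lift f g w) (pullback.diagonal h) :=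
      pullback.lift s (s ≫ f) (by
        apply pullback.hom_ext
        · rw [Category.assoc, Category.assoc, pullback.lift_fst, pullback.diagonal_fst, Category.comp_id]
        · rw [Category.assoc, Category.assoc, pullback.lift_snd, pullback.diagonal_snd, Category.comp_id, H Ω s])
    refine ⟨z (IsLocalRing.closedPoint Ω), ?_⟩
    rw [← Scheme.Hom.comp_apply, pullback.lift_fst]
    exact hs _⟩
  haveI : IsOpenImmersion p := MorphismProperty.pullback_fst _ _ inferInstance
  haveI : IsIso p := (isIso_iff_isOpenImmersion_and_surjective p).mpr ⟨inferInstance, inferInstance⟩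
  have h1 := congrArg (· ≫ pullback.fst h h) (pullback.condition (f := pullback.lift f g w) (g := pullback.diagonal h))
  have h2 := congrArg (· ≫ pullback.snd h h) (pullback.condition (f := pullback.lift f g w) (g := pullback.diagonal h))
  simp only [Category.assoc, pullback.lift_fst, pullback.lift_snd, pullback.diagonal_fst, pullback.diagonal_snd,
    Category.comp_id] at h1 h2
  exact (cancel_epi p).mp (h1.trans h2.symm)

variable {X : Scheme.{u}}

theorem isFinite_hom (Y : FEt.Cat X) : IsFinite (show Y.left ⟶ X from Y.hom) := (Y.prop : FEt.prop Y.hom).1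

theorem etale_hom (Y : FEt.Cat X) : Etale (show Y.left ⟶ X from Y.hom) := (Y.prop : FEt.prop Y.hom).2

theorem w {Y Z : FEt.Cat X} (φ : Y ⟶ Z) : φ.left ≫ (show Z.left ⟶ X from Z.hom) = Y.hom := Over.w φ.hom

theorem isFinite_left {Y Z : FEt.Cat X} (φ : Y ⟶ Z) : IsFinite φ.left := by
  haveI := isFinite_hom Z
  haveI : IsFinite (φ.left ≫ (show Z.left ⟶ X from Z.hom)) := by rw [w φ]; exact isFinite_hom Y
  exact IsFinite.of_comp φ.left (show Z.left ⟶ X from Z.hom)

theorem etale_left {Y Z : FEt.Cat X} (φ : Y ⟶ Z) : Etale φ.left := by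
  haveI := etale_hom Z
  haveI : Etale (φ.left ≫ (show Z.left ⟶ X from Z.hom)) := by rw [w φ]; exact etale_hom Y
  exact Etale.of_comp φ.left (show Z.left ⟶ X from Z.hom)

theorem map_val {Ω : Type u} [Field Ω] (ξ : Spec (CommRingCat.of Ω) ⟶ X) {Y Z : FEt.Cat X} (φ : Y ⟶ Z)
    (s : FEt.fiberObj ξ Y) : ((FEt.fiber ξ).map φ s).1 = s.1 ≫ φ.left := rfl

/-- A geometric point of a cover as a point of the fibre over its image. -/
def pt {Ω : Type u} [Field Ω] {Y : FEt.Cat X} (s : Spec (CommRingCat.of Ω) ⟶ Y.left) :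
    FEt.fiberObj (s ≫ (show Y.left ⟶ X from Y.hom)) Y := ⟨s, rfl⟩

theorem hom_ext_of_fibre {Y Z : FEt.Cat X} (u v : Y ⟶ Z)
    (H : ∀ (Ω : Type u) [Field Ω] [IsAlgClosed Ω] (ξ : Spec (CommRingCat.of Ω) ⟶ X) (s : FEt.fiberObj ξ Y),
      (FEt.fiber ξ).map u s = (FEt.fiber ξ).map v s) : u = v := by
  haveI := etale_hom Z
  refine MorphismProperty.Over.Hom.ext (ext_of_geomPt (show Z.left ⟶ X from Z.hom) u.left v.left
    ((w u).trans (w v).symm) fun Ω _ _ s => ?_)
  exact congrArg Subtype.val (H Ω _ (pt s))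

theorem surjective_left {Y Z : FEt.Cat X} (φ : Y ⟶ Z)
    (H : ∀ (Ω : Type u) [Field Ω] [IsAlgClosed Ω] (ξ : Spec (CommRingCat.of Ω) ⟶ X),
      Function.Surjective ((FEt.fiber ξ).map φ : FEt.fiberObj ξ Y → FEt.fiberObj ξ Z)) : Surjective φ.left := by
  refine ⟨fun z => ?_⟩
  obtain ⟨Ω, _, _, s, hs⟩ := exists_geomPt Z.left z
  obtain ⟨t, ht⟩ := H Ω _ (pt s)
  refine ⟨t.1 (IsLocalRing.closedPoint Ω), ?_⟩
  rw [← Scheme.Hom.comp_apply, show t.1 ≫ φ.left = s from congrArg Subtype.val ht]
  exact hs _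

/-- A morphism of finite étale covers bijective on all geometric fibres is an isomorphism. -/
theorem isIso_of_fibre {Y Z : FEt.Cat X} (φ : Y ⟶ Z)
    (H : ∀ (Ω : Type u) [Field Ω] [IsAlgClosed Ω] (ξ : Spec (CommRingCat.of Ω) ⟶ X),
      Function.Bijective ((FEt.fiber ξ).map φ : FEt.fiberObj ξ Y → FEt.fiberObj ξ Z)) : IsIso φ := by
  haveI := etale_left φ
  haveI := surjective_left φ fun Ω _ _ ξ => (H Ω ξ).2
  haveI : UniversallyInjective φ.left := by
    refine (UniversallyInjective.iff_diagonal _).mpr ⟨fun z => ?_⟩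
    obtain ⟨Ω, _, _, s, hs⟩ := exists_geomPt _ z
    let s₁ := pt (s ≫ pullback.fst φ.left φ.left)
    have e : (s ≫ pullback.snd φ.left φ.left) ≫ (show Y.left ⟶ X from Y.hom) =
        (s ≫ pullback.fst φ.left φ.left) ≫ (show Y.left ⟶ X from Y.hom) := by
      rw [← w φ]
      simp only [Category.assoc, pullback.condition_assoc]
    let s₂ : FEt.fiberObj _ Y := ⟨s ≫ pullback.snd φ.left φ.left, e⟩
    have hst : s₁ = s₂ := (H Ω _).1 (Subtype.ext (by
      rw [map_val, map_val]
      simp only [s₁, s₂, pt, Category.assoc, pullback.condition]))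
    have hst' := congrArg Subtype.val hst
    refine ⟨(s ≫ pullback.fst φ.left φ.left) (IsLocalRing.closedPoint Ω), ?_⟩
    rw [← Scheme.Hom.comp_apply]
    have : (s ≫ pullback.fst φ.left φ.left) ≫ pullback.diagonal φ.left = s := by
      refine pullback.hom_ext (by simp) ?_
      simp only [Category.assoc, pullback.diagonal_snd, Category.comp_id]
      exact hst'
    rw [this]
    exact hs _
  haveI : IsIso φ.left := FFDescLib.isIso_of_etale_univInjective_surjective φ.left
  haveI : IsIso ((MorphismProperty.Over.forget FEt.prop ⊤ X ⋙ Over.forget X).map φ) :=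
    (inferInstance : IsIso φ.left)
  exact isIso_of_reflects_iso φ (MorphismProperty.Over.forget FEt.prop ⊤ X ⋙ Over.forget X)

/-- A cofork whose geometric fibres are coequalizers of sets is a coequalizer. -/
theorem isColimit_cofork {U V Q : FEt.Cat X} (a b : U ⟶ V) (π : V ⟶ Q) (hw : a ≫ π = b ≫ π)
    (hs : ∀ (Ω : Type u) [Field Ω] [IsAlgClosed Ω] (ξ : Spec (CommRingCat.of Ω) ⟶ X),
      Function.Surjective ((FEt.fiber ξ).map π : FEt.fiberObj ξ V → FEt.fiberObj ξ Q))
    (he : ∀ (Ω : Type u) [Field Ω] [IsAlgClosed Ω] (ξ : Spec (CommRingCat.of Ω) ⟶ X) (s t : FEt.fiberObj ξ V),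
      (FEt.fiber ξ).map π s = (FEt.fiber ξ).map π t →
        Relation.EqvGen (fun s t => ∃ r : FEt.fiberObj ξ U, (FEt.fiber ξ).map a r = s ∧ (FEt.fiber ξ).map b r = t) s t) :
    Nonempty (IsColimit (Cofork.ofπ π hw)) := by
  haveI := surjective_left π hs
  haveI := etale_left π
  haveI := isFinite_left π
  haveI : EffectiveEpi π.left := inferInstance
  have key : ∀ (W : FEt.Cat X) (g : V ⟶ W), a ≫ g = b ≫ g →
      ∀ {T : Scheme.{u}} (p q : T ⟶ V.left), p ≫ π.left = q ≫ π.left → p ≫ g.left = q ≫ g.left := by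
    intro W g hg T p q hpq
    haveI := etale_hom W
    refine ext_of_geomPt (show W.left ⟶ X from W.hom) _ _ ?_ fun Ω _ _ z => ?_
    · rw [Category.assoc, Category.assoc, w g, ← w π, reassoc_of% hpq]
    let s := pt (z ≫ p)
    have e : (z ≫ q) ≫ (show V.left ⟶ X from V.hom) = (z ≫ p) ≫ (show V.left ⟶ X from V.hom) := by
      rw [← w π, Category.assoc, Category.assoc, reassoc_of% hpq]
    let t : FEt.fiberObj _ V := ⟨z ≫ q, e⟩
    have hst := he Ω _ s t (Subtype.ext (by
      rw [map_val, map_val]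
      simp only [s, t, pt, Category.assoc, hpq]))
    have : ∀ s t, Relation.EqvGen (fun s t => ∃ r : FEt.fiberObj ((z ≫ p) ≫ (show V.left ⟶ X from V.hom)) U,
        (FEt.fiber _).map a r = s ∧ (FEt.fiber _).map b r = t) s t → s.1 ≫ g.left = t.1 ≫ g.left := by
      intro s t h
      induction h with
      | rel s t h =>
        obtain ⟨r, rfl, rfl⟩ := h
        exact (Category.assoc r.1 a.left g.left).trans
          ((congrArg (fun m => r.1 ≫ m.left) hg).trans (Category.assoc r.1 b.left g.left).symm)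
      | refl => rfl
      | symm _ _ _ ih => exact ih.symm
      | trans _ _ _ _ _ i j => exact i.trans j
    have := this s t hst
    simpa only [s, t, pt, Category.assoc] using this
  refine ⟨Cofork.IsColimit.mk _ (fun c => MorphismProperty.Over.homMk
      (EffectiveEpi.desc π.left c.π.left fun p q h => key _ c.π c.condition p q h) ?_) (fun c => ?_) fun c m hm => ?_⟩
  · haveI : Epi π.left := inferInstance
    rw [← cancel_epi π.left, EffectiveEpi.fac_assoc]
    exact (w c.π).trans (w π).symm
  · exact MorphismProperty.Over.Hom.ext (EffectiveEpi.fac π.left c.π.left fun p q h => key _ c.π c.condition p q h)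
  · exact MorphismProperty.Over.Hom.ext (EffectiveEpi.uniq π.left c.π.left (fun p q h => key _ c.π c.condition p q h) m.left (congrArg (fun m => m.left) hm))

end FEtColim
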