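import Groth.Agent.FEtColimLib.Lim
import Groth.Agent.ClopenFFLib.Henselian
import Groth.Agent.S0294
import Mathlib.AlgebraicGeometry.Morphisms.FlatMono
import Mathlib.AlgebraicGeometry.Morphisms.FlatRank
import Mathlib.CategoryTheory.Galois.Basic
import Mathlib.CategoryTheory.FintypeCat

/-!
# The Galois category of finite étale covers of a connected scheme
-/

set_option autoImplicit false
set_option linter.style.haveILetI false
universe u

open CategoryTheory CategoryTheory.Limits AlgebraicGeometry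

noncomputable section

namespace FEtColim

variable {X : Scheme.{u}} {Ω : Type u} [Field Ω]

/-! ### The fibre functor -/

instance finite_fiberObj (ξ : Spec (CommRingCat.of Ω) ⟶ X) (Y : FEt.Cat X) : Finite (FEt.fiberObj ξ Y) :=
  Groth.Agent.S0294.result ξ Y

/-- The fibre functor with values in finite sets. -/
def finFiber (ξ : Spec (CommRingCat.of Ω) ⟶ X) : FEt.Cat X ⥤ FintypeCat.{u} :=
  ObjectProperty.lift _ (FEt.fiber ξ) fun Y => finite_fiberObj ξ Y

/-- The fibre functor with values in finite sets is the fibre functor. -/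
def finFiberCompIncl (ξ : Spec (CommRingCat.of Ω) ⟶ X) : finFiber ξ ⋙ FintypeCat.incl ≅ FEt.fiber ξ :=
  ObjectProperty.liftCompιIso _ _ _

/-- The fibre functor is corepresented on the category of schemes over the base. -/
def fiberIso (ξ : Spec (CommRingCat.of Ω) ⟶ X) :
    FEt.fiber ξ ≅ MorphismProperty.Over.forget FEt.prop ⊤ X ⋙ coyoneda.obj (Opposite.op (Over.mk ξ)) :=
  NatIso.ofComponents (fun Y => Equiv.toIso
    { toFun := fun s => Over.homMk s.1 s.2
      invFun := fun m => ⟨m.left, Over.w m⟩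
      left_inv := fun _ => rfl
      right_inv := fun _ => rfl })
    fun φ => ConcreteCategory.hom_ext _ _ fun _ => Over.OverMorphism.ext rfl

theorem preservesFiniteLimits_fiber (ξ : Spec (CommRingCat.of Ω) ⟶ X) : PreservesFiniteLimits (FEt.fiber ξ) :=
  preservesFiniteLimits_of_natIso (fiberIso ξ).symm

theorem preservesFiniteLimits_finFiber (ξ : Spec (CommRingCat.of Ω) ⟶ X) : PreservesFiniteLimits (finFiber ξ) := by
  haveI := preservesFiniteLimits_fiber ξ
  haveI : PreservesFiniteLimits (finFiber ξ ⋙ FintypeCat.incl) :=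
    preservesFiniteLimits_of_natIso (finFiberCompIncl ξ).symm
  exact ⟨fun _ _ _ => preservesLimitsOfShape_of_reflects_of_preserves _ FintypeCat.incl⟩

theorem preservesFiniteColimits_finFiber [IsAlgClosed Ω] (ξ : Spec (CommRingCat.of Ω) ⟶ X) :
    PreservesFiniteColimits (finFiber ξ) := by
  haveI := preservesFiniteColimits_fiber ξ
  haveI : PreservesFiniteColimits (finFiber ξ ⋙ FintypeCat.incl) :=
    preservesFiniteColimits_of_natIso (finFiberCompIncl ξ).symm
  exact ⟨fun _ _ _ => preservesColimitsOfShape_of_reflects_of_preserves _ FintypeCat.incl⟩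

/-- Morphisms of covers commute with the structure maps. -/
theorem str_comp {Y Z : FEt.Cat X} (φ : Y ⟶ Z) : φ.left ≫ str Z = str Y := w φ

/-! ### Monomorphisms -/

theorem injective_fmap_of_mono (ξ : Spec (CommRingCat.of Ω) ⟶ X) {Y Z : FEt.Cat X} (i : Y ⟶ Z) [Mono i] :
    Function.Injective (fmap ξ i) := by
  haveI := preservesFiniteLimits_fiber ξ
  exact (mono_iff_injective ((FEt.fiber ξ).map i)).mp inferInstance

theorem mono_left {Y Z : FEt.Cat X} (i : Y ⟶ Z) [Mono i] : Mono i.left := by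
  haveI := etale_hom Y
  refine ⟨fun {T} f g hfg => ext_of_geomPt (str Y) f g ?_ fun Ω _ _ s => ?_⟩
  · rw [← str_comp i, ← Category.assoc, hfg, Category.assoc]
  · have e : (s ≫ g) ≫ str Y = (s ≫ f) ≫ str Y := by
      rw [← str_comp i]
      simp only [Category.assoc]
      rw [reassoc_of% hfg]
    exact congrArg Subtype.val (injective_fmap_of_mono ((s ≫ f) ≫ str Y) i
      (a₁ := pt (s ≫ f)) (a₂ := ⟨s ≫ g, e⟩) (Subtype.ext (by
        rw [fmap, fmap, map_val, map_val]
        show (s ≫ f) ≫ i.left = (s ≫ g) ≫ i.left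
        rw [Category.assoc, hfg, Category.assoc])))

omit [Field Ω] in
theorem exists_lift_opens {T W : Scheme.{u}} (U : W.Opens) (s : T ⟶ W) (h : Set.range s ⊆ Set.range U.ι) :
    ∃ l, l ≫ U.ι = s :=
  ⟨IsOpenImmersion.lift U.ι s h, IsOpenImmersion.lift_fac _ _ _⟩

theorem mono_summand {Y Z : FEt.Cat X} (i : Y ⟶ Z) [Mono i] :
    ∃ (W : FEt.Cat X) (u : W ⟶ Z), Nonempty (IsColimit (BinaryCofan.mk i u)) := by
  haveI := mono_left i
  haveI := etale_left i
  haveI := isFinite_left i
  haveI := etale_hom Z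
  haveI := isFinite_hom Z
  haveI : IsOpenImmersion i.left := IsOpenImmersion.of_flat_of_mono i.left
  let U : Z.left.Opens := ⟨(Set.range i.left.base)ᶜ, i.left.isClosedMap.isClosed_range.isOpen_compl⟩
  haveI : IsClosedImmersion U.ι := IsClosedImmersion.of_isPreimmersion U.ι (by
    rw [Scheme.Opens.range_ι]
    exact i.left.isOpenEmbedding.isOpen_range.isClosed_compl)
  haveI hU : IsOpenImmersion U.ι := U.instIsOpenImmersionι
  let u : MorphismProperty.Over.mk (P := FEt.prop) ⊤ (U.ι ≫ str Z)
      ⟨inferInstanceAs (IsFinite (U.ι ≫ str Z)), inferInstanceAs (Etale (U.ι ≫ str Z))⟩ ⟶ Z :=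
    MorphismProperty.Over.homMk U.ι rfl
  refine ⟨_, u, nonempty_isColimit_binary i u fun Ω _ _ ξ => ⟨injective_fmap_of_mono ξ i, fun s t h => ?_, ?_⟩⟩
  · exact Subtype.ext ((cancel_mono U.ι).mp (congrArg Subtype.val h))
  · refine isCompl_iff.mpr ⟨Set.disjoint_iff_forall_ne.mpr ?_, codisjoint_iff.mpr (Set.eq_univ_of_forall fun z => ?_)⟩
    · rintro _ ⟨s, rfl⟩ _ ⟨t, rfl⟩ h
      have h1 := congrArg (fun v : Spec (CommRingCat.of Ω) ⟶ Z.left => v (IsLocalRing.closedPoint Ω))
        (congrArg Subtype.val h)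
      have h2 : U.ι (t.1 (IsLocalRing.closedPoint Ω)) ∈ (U : Set Z.left) := (t.1 (IsLocalRing.closedPoint Ω)).2
      exact h2 ⟨s.1 (IsLocalRing.closedPoint Ω), h1⟩
    · by_cases hz : z.1 (IsLocalRing.closedPoint Ω) ∈ Set.range i.left.base
      · have hr : Set.range z.1 ⊆ Set.range i.left := by
          rw [range_point, Set.singleton_subset_iff]; exact hz
        refine Or.inl ⟨⟨IsOpenImmersion.lift i.left z.1 hr, ?_⟩, Subtype.ext (IsOpenImmersion.lift_fac _ _ _)⟩
        show IsOpenImmersion.lift i.left z.1 hr ≫ str Y = ξ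
        rw [← str_comp i, ← Category.assoc, IsOpenImmersion.lift_fac]
        exact z.2
      · have hr : Set.range z.1 ⊆ Set.range U.ι := by
          rw [range_point, Set.singleton_subset_iff, Scheme.Opens.range_ι]; exact hz
        obtain ⟨l, hl⟩ := exists_lift_opens U z.1 hr
        refine Or.inr ⟨⟨l, ?_⟩, Subtype.ext hl⟩
        show l ≫ U.ι ≫ str Z = ξ
        rw [← Category.assoc, hl]
        exact z.2

/-! ### Reflecting isomorphisms -/

variable [IsAlgClosed Ω]

theorem exists_section {P : Scheme.{u}} (q : P ⟶ Spec (CommRingCat.of Ω)) [Etale q] (p : P) :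
    ∃ σ : Spec (CommRingCat.of Ω) ⟶ P, σ ≫ q = 𝟙 _ ∧ p ∈ Set.range σ.base := by
  haveI : IsSepClosed (IsLocalRing.ResidueField Ω) :=
    AzInvLib.isSepClosed_of_ringEquiv (RingEquiv.ofBijective (IsLocalRing.residue Ω)
      ⟨(IsLocalRing.residue Ω).injective, IsLocalRing.residue_surjective⟩)
  exact ClopenFFLib.exists_section_through q p
    (@Subsingleton.elim _ (inferInstanceAs (Subsingleton (PrimeSpectrum Ω))) _ _)

theorem finrank_left_eq_one (ξ : Spec (CommRingCat.of Ω) ⟶ X) {Y Z : FEt.Cat X} (φ : Y ⟶ Z)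
    (h : Function.Bijective (fmap ξ φ)) (z : Z.left) (hz : str Z z = ξ (IsLocalRing.closedPoint Ω)) :
    Scheme.Hom.finrank φ.left z = 1 := by
  haveI := etale_left φ
  haveI := isFinite_left φ
  haveI := etale_hom Z
  obtain ⟨p, hp, -⟩ := Scheme.Pullback.exists_preimage_pullback (f := str Z) (g := ξ) z _ hz
  obtain ⟨σ₀, hσ₀, p', hp'⟩ := exists_section (pullback.snd (str Z) ξ) p
  let t : FEt.fiberObj ξ Z := ⟨σ₀ ≫ pullback.fst (str Z) ξ, by
    show (σ₀ ≫ pullback.fst (str Z) ξ) ≫ str Z = ξ
    rw [Category.assoc, pullback.condition, ← Category.assoc, hσ₀, Category.id_comp]⟩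
  have ht : t.1 p' = z := by
    show (σ₀ ≫ pullback.fst (str Z) ξ) p' = z
    rw [Scheme.Hom.comp_apply, ← hp]
    exact congrArg _ hp'
  obtain ⟨s, hs⟩ := h.2 t
  have hs' : s.1 ≫ φ.left = t.1 := congrArg Subtype.val hs
  let σ : Spec (CommRingCat.of Ω) ⟶ pullback φ.left t.1 :=
    pullback.lift s.1 (𝟙 _) (by rw [hs', Category.id_comp])
  let q := pullback.snd φ.left t.1
  have hσ : σ ≫ q = 𝟙 _ := pullback.lift_snd _ _ _
  haveI : Etale (σ ≫ q) := by rw [hσ]; infer_instance
  haveI : Etale σ := Etale.of_comp σ q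
  haveI : Mono σ := mono_of_mono_fac hσ
  haveI : IsOpenImmersion σ := IsOpenImmersion.of_flat_of_mono σ
  haveI : Surjective σ := by
    refine ⟨fun x => ?_⟩
    obtain ⟨τ, hτ, y, hy⟩ := exists_section q x
    let s' : FEt.fiberObj ξ Y := ⟨τ ≫ pullback.fst φ.left t.1, by
      show (τ ≫ pullback.fst φ.left t.1) ≫ str Y = ξ
      rw [← str_comp φ]
      simp only [Category.assoc, pullback.condition_assoc]
      rw [reassoc_of% hτ]
      exact t.2⟩
    have : s' = s := h.1 (Eq.trans (Subtype.ext (by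
      rw [fmap, map_val]
      show (τ ≫ pullback.fst φ.left t.1) ≫ φ.left = t.1
      rw [Category.assoc, pullback.condition, ← Category.assoc, hτ, Category.id_comp])) hs.symm)
    have hτσ : τ = σ := by
      apply pullback.hom_ext
      · rw [pullback.lift_fst]
        exact congrArg Subtype.val this
      · exact hτ.trans hσ.symm
    exact ⟨y, by rw [← hτσ]; exact hy⟩
  haveI : IsIso σ := (isIso_iff_isOpenImmersion_and_surjective σ).mpr ⟨inferInstance, inferInstance⟩
  haveI : IsIso q := by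
    have : q = inv σ := (IsIso.inv_eq_of_hom_inv_id hσ).symm
    rw [this]; infer_instance
  have h1 := congrFun (Scheme.Hom.finrank_eq_one_of_isIso q) p'
  rw [Scheme.Hom.finrank_pullback_snd, ht] at h1
  exact h1

theorem isIso_of_bijective [ConnectedSpace X] (ξ : Spec (CommRingCat.of Ω) ⟶ X) {Y Z : FEt.Cat X} (φ : Y ⟶ Z)
    (h : Function.Bijective (fmap ξ φ)) : IsIso φ := by
  haveI := etale_left φ
  haveI := isFinite_left φ
  haveI := etale_hom Z
  haveI := isFinite_hom Z
  let B : Set Z.left := {z | Scheme.Hom.finrank φ.left z ≠ 1}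
  have hB : IsClopen B := (φ.left.isLocallyConstant_finrank.isClopen_fiber 1).compl
  have hC : IsClopen (str Z '' B) :=
    ⟨(str Z).isClosedMap _ hB.1, (str Z).isOpenMap _ hB.2⟩
  have hempty : str Z '' B = ∅ := by
    refine (isClopen_iff.mp hC).resolve_right fun hu => ?_
    obtain ⟨z, hzB, hz⟩ : ξ (IsLocalRing.closedPoint Ω) ∈ str Z '' B := by rw [hu]; trivial
    exact hzB (finrank_left_eq_one ξ φ h z hz)
  haveI : IsIso φ.left := by
    rw [Scheme.Hom.isIso_iff_finrank_eq]
    funext z
    by_contra hz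
    exact Set.eq_empty_iff_forall_notMem.mp hempty (str Z z) ⟨z, hz, rfl⟩
  haveI : IsIso ((MorphismProperty.Over.forget FEt.prop ⊤ X ⋙ Over.forget X).map φ) :=
    (inferInstance : IsIso φ.left)
  exact isIso_of_reflects_iso φ (MorphismProperty.Over.forget FEt.prop ⊤ X ⋙ Over.forget X)

theorem reflectsIsomorphisms_finFiber [ConnectedSpace X] (ξ : Spec (CommRingCat.of Ω) ⟶ X) :
    (finFiber ξ).ReflectsIsomorphisms :=
  ⟨fun φ hφ => isIso_of_bijective ξ φ <| by
    haveI : IsIso ((finFiber ξ ⋙ FintypeCat.incl).map φ) := inferInstanceAs (IsIso (FintypeCat.incl.map ((finFiber ξ).map φ)))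
    exact (isIso_iff_bijective ((FEt.fiber ξ).map φ)).mp
      (inferInstanceAs (IsIso ((finFiber ξ ⋙ FintypeCat.incl).map φ)))⟩

/-! ### Quotients by finite groups -/

theorem preGaloisCategory (X : Scheme.{u}) : PreGaloisCategory (FEt.Cat X) where
  hasQuotientsByFiniteGroups G _ _ := by
    obtain ⟨G', _, _, ⟨e⟩⟩ := Finite.exists_type_univ_nonempty_mulEquiv G
    exact Limits.hasColimitsOfShape_of_equivalence e.toSingleObjEquiv.symm
  monoInducesIsoOnDirectSummand i _ := mono_summand i

theorem preservesQuotients (ξ : Spec (CommRingCat.of Ω) ⟶ X) (G : Type u) [Group G] [Finite G] :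
    PreservesColimitsOfShape (SingleObj G) (finFiber ξ) := by
  obtain ⟨G', _, _, ⟨e⟩⟩ := Finite.exists_type_univ_nonempty_mulEquiv G
  haveI := preservesFiniteColimits_finFiber ξ
  exact preservesColimitsOfShape_of_equiv e.toSingleObjEquiv.symm _

/-- The fibre functor at a geometric point of a connected scheme is a fibre functor. -/
theorem fiberFunctor [ConnectedSpace X] (ξ : Spec (CommRingCat.of Ω) ⟶ X) :
    letI := preGaloisCategory X
    Nonempty (PreGaloisCategory.FiberFunctor (finFiber ξ)) := by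
  letI := preGaloisCategory X
  haveI := preservesFiniteLimits_finFiber ξ
  haveI := preservesFiniteColimits_finFiber ξ
  haveI := reflectsIsomorphisms_finFiber ξ
  exact ⟨{ preservesQuotientsByFiniteGroups := fun G _ _ => preservesQuotients ξ G }⟩

end FEtColim
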