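import Groth.Prelude.Def_FEt
import Groth.Agent.FEtColimLib.Fibre
import Groth.Agent.FEtColimLib.AlgFib
import Mathlib.AlgebraicGeometry.Normalization

/-!
# Coequalizers of finite étale covers

The coequalizer is glued from the equalizers of the algebras of sections over affine opens.
-/

set_option autoImplicit false
set_option linter.style.haveILetI false
universe u

open CategoryTheory CategoryTheory.Limits AlgebraicGeometry Opposite
open AlgebraicGeometry.Scheme.AffineZariskiSite

noncomputable section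

namespace FEtColim

theorem isLocalization_eqLocus {B B' C C' : Type u} [CommRing B] [CommRing B'] [CommRing C] [CommRing C']
    (φ ψ : B →+* C) (φ' ψ' : B' →+* C') (ρB : B →+* B') (ρC : C →+* C')
    (hφ : ∀ b, φ' (ρB b) = ρC (φ b)) (hψ : ∀ b, ψ' (ρB b) = ρC (ψ b))
    (x : B) (hx : φ x = ψ x)
    (hB : letI := ρB.toAlgebra; IsLocalization.Away x B')
    (hC : letI := ρC.toAlgebra; IsLocalization.Away (φ x) C')
    (ρ : φ.eqLocus ψ →+* φ'.eqLocus ψ') (hρ : ∀ z, (ρ z).1 = ρB z.1) :
    letI := ρ.toAlgebra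
    IsLocalization.Away (⟨x, hx⟩ : φ.eqLocus ψ) (φ'.eqLocus ψ') := by
  letI := ρB.toAlgebra
  letI := ρC.toAlgebra
  haveI := hB
  haveI := hC
  letI := ρ.toAlgebra
  have hu : IsUnit (ρB x) := IsLocalization.Away.algebraMap_isUnit x
  refine ⟨?_, ?_, ?_⟩
  · rintro ⟨y, n, rfl⟩
    refine isUnit_iff_exists_inv.mpr ?_
    obtain ⟨v, hv⟩ := isUnit_iff_exists_inv.mp (hu.pow n)
    refine ⟨⟨v, ?_⟩, Subtype.ext ?_⟩
    · show φ' v = ψ' v
      have h1 : φ' (ρB x) ^ n * φ' v = 1 := by rw [← map_pow, ← map_mul, hv, map_one]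
      have h2 : φ' (ρB x) ^ n * ψ' v = 1 := by
        rw [show φ' (ρB x) = ψ' (ρB x) by rw [hφ, hψ, hx], ← map_pow, ← map_mul, hv, map_one]
      exact ((IsUnit.of_mul_eq_one _ h1).mul_right_inj).mp (h1.trans h2.symm)
    · show (ρ (⟨x, hx⟩ ^ n)).1 * v = 1
      rw [hρ]
      simpa using hv
  · rintro ⟨z, hz⟩
    obtain ⟨⟨s, ⟨_, n, rfl⟩⟩, hs⟩ := IsLocalization.surj (Submonoid.powers x) z
    change z * ρB (x ^ n) = ρB s at hs
    have hd : ρC (φ s) = ρC (ψ s) := by
      rw [← hφ, ← hψ, ← hs]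
      simp only [map_mul, map_pow, hφ, hψ, hx]
      rw [show φ' z = ψ' z from hz]
    obtain ⟨⟨_, m, rfl⟩, hm⟩ := (IsLocalization.eq_iff_exists (Submonoid.powers (φ x)) C').mp
      (show algebraMap C C' (φ s) = algebraMap C C' (ψ s) from hd)
    refine ⟨⟨⟨x ^ m * s, ?_⟩, ⟨⟨x, hx⟩ ^ (n + m), n + m, rfl⟩⟩, Subtype.ext ?_⟩
    · show φ (x ^ m * s) = ψ (x ^ m * s)
      rw [map_mul, map_mul, map_pow, map_pow, ← hx]
      exact hm
    · show z * (ρ (⟨x, hx⟩ ^ (n + m))).1 = (ρ _).1
      rw [hρ, hρ]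
      show z * ρB (x ^ (n + m)) = ρB (x ^ m * s)
      rw [map_mul, ← hs, pow_add, map_mul]
      ring
  · intro p q hpq
    have h : ρB p.1 = ρB q.1 := by rw [← hρ, ← hρ]; exact congrArg Subtype.val hpq
    obtain ⟨⟨_, m, rfl⟩, hm⟩ := (IsLocalization.eq_iff_exists (Submonoid.powers x) B').mp
      (show algebraMap B B' p.1 = algebraMap B B' q.1 from h)
    exact ⟨⟨⟨x, hx⟩ ^ m, m, rfl⟩, Subtype.ext hm⟩

variable {X : Scheme.{u}} {U V : FEt.Cat X} (a b : U ⟶ V)

/-- the structure map of a cover -/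
abbrev str (Y : FEt.Cat X) : Y.left ⟶ X := Y.hom

theorem le_preimage {U V : FEt.Cat X} (a : U ⟶ V) (W : X.Opens) :
    str U ⁻¹ᵁ W ≤ a.left ⁻¹ᵁ (str V ⁻¹ᵁ W) := le_of_eq (congrArg (fun f : U.left ⟶ X => f ⁻¹ᵁ W) (w a).symm)

/-- the action on sections over the preimages of an open of the base -/
abbrev secMap {U V : FEt.Cat X} (a : U ⟶ V) (W : X.Opens) :
    Γ(V.left, str V ⁻¹ᵁ W) ⟶ Γ(U.left, str U ⁻¹ᵁ W) :=
  a.left.appLE (str V ⁻¹ᵁ W) (str U ⁻¹ᵁ W) (le_preimage a W)

/-- restriction of sections over preimages -/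
abbrev res (Y : FEt.Cat X) {W W' : X.Opens} (i : W' ≤ W) :
    Γ(Y.left, str Y ⁻¹ᵁ W) ⟶ Γ(Y.left, str Y ⁻¹ᵁ W') :=
  Y.left.presheaf.map (homOfLE ((str Y).preimage_mono i)).op

theorem secMap_res {U V : FEt.Cat X} (a : U ⟶ V) {W W' : X.Opens} (i : W' ≤ W) :
    res V i ≫ secMap a W' = secMap a W ≫ res U i := by
  rw [Scheme.Hom.map_appLE, Scheme.Hom.appLE_map]

theorem str_secMap {U V : FEt.Cat X} (a : U ⟶ V) (W : X.Opens) :
    (str V).app W ≫ secMap a W = (str U).app W := by
  rw [Scheme.Hom.app_eq_appLE, Scheme.Hom.appLE_comp_appLE, Scheme.Hom.app_eq_appLE]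
  congr 1
  exact w a

/-- The diagram of equalizers. -/
def diagram : X.Opensᵒᵖ ⥤ CommRingCat.{u} where
  obj W := .of ((secMap a W.unop).hom.eqLocus (secMap b W.unop).hom)
  map {W W'} i := CommRingCat.ofHom ((res V i.unop.le).hom.restrict _ _ fun x hx => by
    show (secMap a W'.unop).hom ((res V i.unop.le).hom x) = (secMap b W'.unop).hom ((res V i.unop.le).hom x)
    rw [← CommRingCat.comp_apply, ← CommRingCat.comp_apply, secMap_res, secMap_res, CommRingCat.comp_apply,
      CommRingCat.comp_apply]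
    exact congrArg _ hx)
  map_id W := by
    ext x
    exact congrArg (fun f : Γ(V.left, str V ⁻¹ᵁ W.unop) ⟶ _ => f.hom x.1) (V.left.presheaf.map_id _)
  map_comp {W W' W''} i j := by
    ext x
    show (res V _).hom x.1 = (res V j.unop.le).hom ((res V i.unop.le).hom x.1)
    rw [← CommRingCat.comp_apply, ← Functor.map_comp]
    rfl

/-- The structure map of the diagram. -/
def diagramMap : X.presheaf ⟶ diagram a b where
  app W := CommRingCat.ofHom (((str V).app W.unop).hom.codRestrict _ fun x => by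
    show (secMap a W.unop).hom (((str V).app W.unop).hom x) = (secMap b W.unop).hom (((str V).app W.unop).hom x)
    rw [← CommRingCat.comp_apply, ← CommRingCat.comp_apply, str_secMap, str_secMap])
  naturality {W W'} i := by
    ext x
    exact Subtype.ext congr($((str V).naturality i) x)

theorem isAffineOpen_pre (Y : FEt.Cat X) {W : X.Opens} (hW : IsAffineOpen W) : IsAffineOpen (str Y ⁻¹ᵁ W) := by
  haveI := isFinite_hom Y
  exact hW.preimage (str Y)

theorem isLocalization_res (Y : FEt.Cat X) {W : X.Opens} (hW : IsAffineOpen W) (r : Γ(X, W)) :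
    letI := (res Y (X.basicOpen_le r)).hom.toAlgebra
    IsLocalization.Away ((str Y).app W r) Γ(Y.left, str Y ⁻¹ᵁ X.basicOpen r) := by
  let inst : Algebra Γ(Y.left, str Y ⁻¹ᵁ W) Γ(Y.left, str Y ⁻¹ᵁ X.basicOpen r) :=
    (Y.left.presheaf.map (homOfLE ((str Y).preimage_mono (X.basicOpen_le r))).op).hom.toAlgebra
  show IsLocalization.Away ((str Y).app W r) Γ(Y.left, str Y ⁻¹ᵁ X.basicOpen r)
  let : Algebra Γ(Y.left, str Y ⁻¹ᵁ W) Γ(Y.left, Y.left.basicOpen ((str Y).app W r)) :=
    (Y.left.presheaf.map (homOfLE (Y.left.basicOpen_le _)).op).hom.toAlgebra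
  dsimp +instances [inst]
  rw! (castMode := .all) [(str Y).preimage_basicOpen r]
  exact (isAffineOpen_pre Y hW).isLocalization_basicOpen _

theorem coequifibered_diagramMap : ((toOpensFunctor X).op.whiskerLeft (diagramMap a b)).Coequifibered := by
  refine coequifibered_iff_forall_isLocalizationAway.mpr fun W r => ?_
  have hx : (secMap a W.1).hom ((str V).app W.1 r) = (secMap b W.1).hom ((str V).app W.1 r) := by
    rw [← CommRingCat.comp_apply, ← CommRingCat.comp_apply, str_secMap, str_secMap]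
  refine isLocalization_eqLocus (secMap a W.1).hom (secMap b W.1).hom
    (secMap a (X.basicOpen r)).hom (secMap b (X.basicOpen r)).hom
    (res V (X.basicOpen_le r)).hom (res U (X.basicOpen_le r)).hom
    (fun y => by rw [← CommRingCat.comp_apply, ← CommRingCat.comp_apply, secMap_res])
    (fun y => by rw [← CommRingCat.comp_apply, ← CommRingCat.comp_apply, secMap_res])
    ((str V).app W.1 r) hx (isLocalization_res V W.2 r) ?_
    ((diagram a b).map (homOfLE (X.basicOpen_le r)).op).hom (fun _ => rfl)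
  have h := isLocalization_res U W.2 r
  rwa [← str_secMap a, CommRingCat.comp_apply] at h

/-- The gluing data of the coequalizer. -/
def glueData := relativeGluingData (coequifibered_diagramMap a b)

instance : ((glueData a b).functor ⋙ Scheme.forget).IsLocallyDirected :=
  Scheme.Cover.RelativeGluingData.instIsLocallyDirectedI₀CompFunctorForgetOfIsThin ..

/-- The underlying scheme of the coequalizer. -/
def coeqScheme : Scheme.{u} := (glueData a b).glued

/-- The structure map of the coequalizer. -/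
def coeqHom : coeqScheme a b ⟶ X := (glueData a b).toBase

/-- The chart of the coequalizer over an affine open. -/
def chart (W : X.AffineZariskiSite) : Spec ((diagram a b).obj (op W.1)) ⟶ coeqScheme a b :=
  colimit.ι (glueData a b).functor W

theorem chart_hom (W : X.AffineZariskiSite) :
    chart a b W ≫ coeqHom a b = Spec.map ((diagramMap a b).app (op W.1)) ≫ W.2.fromSpec := by
  refine ((glueData a b).ι_toBase W).trans ?_
  exact Category.assoc _ _ _

theorem isPullback_chart (W : X.AffineZariskiSite) :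
    IsPullback (Spec.map ((diagramMap a b).app (op W.1)) ≫ W.2.isoSpec.inv) (chart a b W) W.1.ι (coeqHom a b) :=
  (glueData a b).isPullback_natTrans_ι_toBase W

theorem range_chart (W : X.AffineZariskiSite) {T : Scheme.{u}} (s : T ⟶ coeqScheme a b)
    (hs : Set.range (s ≫ coeqHom a b) ⊆ W.1) : ∃ l, l ≫ chart a b W = s :=
  ⟨(isPullback_chart a b W).lift (IsOpenImmersion.lift W.1.ι (s ≫ coeqHom a b) (by simpa using hs)) s
      (IsOpenImmersion.lift_fac _ _ _), IsPullback.lift_snd _ _ _ _⟩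

/-- The sections of a cover as an algebra over the sections of the base. -/
theorem finite_etale_app (Y : FEt.Cat X) {W : X.Opens} (hW : IsAffineOpen W) :
    ((str Y).app W).hom.Finite ∧ ((str Y).app W).hom.Etale := by
  haveI := isFinite_hom Y
  haveI := etale_hom Y
  refine ⟨IsFinite.finite_app (str Y) W hW, ?_⟩
  have := HasRingHomProperty.appLE @Etale (str Y) ‹_› ⟨W, hW⟩ ⟨_, isAffineOpen_pre Y hW⟩ le_rfl
  rwa [← Scheme.Hom.app_eq_appLE] at this

theorem finite_etale_diagramMap (W : X.AffineZariskiSite) :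
    ((diagramMap a b).app (op W.1)).hom.Finite ∧ ((diagramMap a b).app (op W.1)).hom.Etale := by
  letI := ((str V).app W.1).hom.toAlgebra
  letI := ((str U).app W.1).hom.toAlgebra
  haveI : Module.Finite Γ(X, W.1) Γ(V.left, str V ⁻¹ᵁ W.1) := (finite_etale_app V W.2).1
  haveI : Algebra.Etale Γ(X, W.1) Γ(V.left, str V ⁻¹ᵁ W.1) := (finite_etale_app V W.2).2
  haveI : Module.Finite Γ(X, W.1) Γ(U.left, str U ⁻¹ᵁ W.1) := (finite_etale_app U W.2).1
  haveI : Algebra.Etale Γ(X, W.1) Γ(U.left, str U ⁻¹ᵁ W.1) := (finite_etale_app U W.2).2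
  let φ : Γ(V.left, str V ⁻¹ᵁ W.1) →ₐ[Γ(X, W.1)] Γ(U.left, str U ⁻¹ᵁ W.1) :=
    ⟨(secMap a W.1).hom, fun r => ConcreteCategory.congr_hom (str_secMap a W.1) r⟩
  let ψ : Γ(V.left, str V ⁻¹ᵁ W.1) →ₐ[Γ(X, W.1)] Γ(U.left, str U ⁻¹ᵁ W.1) :=
    ⟨(secMap b W.1).hom, fun r => ConcreteCategory.congr_hom (str_secMap b W.1) r⟩
  let e : AlgHom.equalizer φ ψ ≃+* (secMap a W.1).hom.eqLocus (secMap b W.1).hom :=
    { toFun := fun z => ⟨z.1, z.2⟩
      invFun := fun z => ⟨z.1, z.2⟩
      left_inv := fun _ => rfl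
      right_inv := fun _ => rfl
      map_mul' := fun _ _ => rfl
      map_add' := fun _ _ => rfl }
  have he : ((diagramMap a b).app (op W.1)).hom = e.toRingHom.comp (algebraMap Γ(X, W.1) (AlgHom.equalizer φ ψ)) :=
    RingHom.ext fun _ => rfl
  rw [he]
  exact ⟨RingHom.finite_respectsIso.1 _ e (RingHom.finite_algebraMap.mpr (finite_equalizer φ ψ)),
    RingHom.Etale.respectsIso.1 _ e (RingHom.etale_algebraMap.mpr (etale_equalizer φ ψ))⟩

theorem prop_coeqHom : FEt.prop (coeqHom a b) := by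
  have hW : ∀ W : X.AffineZariskiSite,
      FEt.prop (pullback.snd (coeqHom a b) W.1.ι) := by
    intro W
    rw [← (isPullback_chart a b W).flip.isoPullback_inv_snd]
    have h1 : IsFinite (Spec.map ((diagramMap a b).app (op W.1))) :=
      (IsFinite.SpecMap_iff _).mpr (finite_etale_diagramMap a b W).1
    have h2 : Etale (Spec.map ((diagramMap a b).app (op W.1))) :=
      (HasRingHomProperty.Spec_iff (P := @Etale)).mpr (finite_etale_diagramMap a b W).2
    refine FEt.prop.comp_mem _ _ ⟨inferInstance, inferInstance⟩ (FEt.prop.comp_mem _ _ ⟨h1, h2⟩ ⟨inferInstance, inferInstance⟩)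
  exact ⟨(IsZariskiLocalAtTarget.iff_of_openCover (P := @IsFinite) (directedCover X)).mpr fun W => (hW W).1,
    (IsZariskiLocalAtTarget.iff_of_openCover (P := @Etale) (directedCover X)).mpr fun W => (hW W).2⟩

/-- The coequalizer. -/
def coeq : FEt.Cat X := MorphismProperty.Over.mk ⊤ (coeqHom a b) (prop_coeqHom a b)

/-- The part of the projection over an affine open. -/
def coeqMapPart (W : X.AffineZariskiSite) : ((str V ⁻¹ᵁ W.1 : V.left.Opens) : Scheme.{u}) ⟶ coeqScheme a b :=
  (str V ⁻¹ᵁ W.1).toSpecΓ ≫ Spec.map (CommRingCat.ofHom (((secMap a W.1).hom.eqLocus (secMap b W.1).hom).subtype)) ≫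
    chart a b W

set_option backward.defeqAttrib.useBackward true in
set_option backward.isDefEq.respectTransparency false in
theorem exists_coeqMap : ∃ π : V.left ⟶ coeqScheme a b,
    π ≫ coeqHom a b = str V ∧ ∀ W : X.AffineZariskiSite, (str V ⁻¹ᵁ W.1).ι ≫ π = coeqMapPart a b W := by
  have htrans : ∀ {W W' : X.AffineZariskiSite} (i : W ⟶ W'),
      (pullbackRestrictIsoRestrict (str V) W.1).inv ≫
      Scheme.Cover.trans ((directedCover X).pullback₁ (str V)) i ≫
      (pullbackRestrictIsoRestrict (str V) W'.1).hom = V.left.homOfLE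
        ((str V).preimage_mono (toOpens_mono i.1.1)) := fun {W W'} i => by
    rw [← cancel_mono (Scheme.Opens.ι _)]
    simp +instances [Scheme.Cover.trans, Scheme.Cover.locallyDirectedPullbackCover]
  let g : ∀ W : X.AffineZariskiSite, ((directedCover X).pullback₁ (str V)).X W ⟶ coeqScheme a b :=
    fun W => (pullbackRestrictIsoRestrict (str V) W.1).hom ≫ coeqMapPart a b W
  have hg : ∀ {W W' : X.AffineZariskiSite} (i : W ⟶ W'),
      Scheme.Cover.trans ((directedCover X).pullback₁ (str V)) i ≫ g W' = g W := by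
    intro W W' i
    simp only [g]
    rw [← Iso.inv_comp_eq, reassoc_of% (htrans i), coeqMapPart, coeqMapPart,
      ← Scheme.Opens.toSpecΓ_SpecMap_presheaf_map_assoc, ← Spec.map_comp_assoc]
    rw [show chart a b W = (glueData a b).functor.map i ≫ chart a b W' from
      (colimit.w (glueData a b).functor i).symm]
    simp only [glueData, relativeGluingData]
    dsimp
    rw [← Spec.map_comp_assoc]
    rfl
  obtain ⟨π, hπ⟩ : ∃ π : V.left ⟶ coeqScheme a b,
      ∀ W : ((directedCover X).pullback₁ (str V)).I₀, ((directedCover X).pullback₁ (str V)).f W ≫ π = g W :=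
    ⟨Scheme.OpenCover.glueMorphismsOfLocallyDirected ((directedCover X).pullback₁ (str V)) g hg,
      fun W => by rw [Scheme.OpenCover.map_glueMorphismsOfLocallyDirected]⟩
  refine ⟨π, ?_, ?_⟩
  · refine Scheme.Cover.hom_ext ((directedCover X).pullback₁ (str V)) _ _ fun W => ?_
    rw [← Category.assoc, hπ]
    simp only [g, coeqMapPart, Category.assoc, chart_hom, ← Spec.map_comp_assoc]
    rw [show (diagramMap a b).app (op W.1) ≫ CommRingCat.ofHom (((secMap a W.1).hom.eqLocus (secMap b W.1).hom).subtype)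
        = (str V).app W.1 from rfl, Scheme.Hom.app_eq_appLE,
      W.2.SpecMap_appLE_fromSpec (str V) (isAffineOpen_pre V W.2) le_rfl, IsAffineOpen.toSpecΓ_fromSpec_assoc]
    simp
  · intro W
    rw [← cancel_epi (pullbackRestrictIsoRestrict (str V) W.1).hom, ← Category.assoc]
    refine Eq.trans ?_ (hπ W)
    congr 1
    simp

/-- The projection to the coequalizer. -/
def coeqMap : V.left ⟶ coeqScheme a b := (exists_coeqMap a b).choose

theorem coeqMap_hom : coeqMap a b ≫ coeqHom a b = str V := (exists_coeqMap a b).choose_spec.1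

theorem fromSpec_coeqMap (W : X.AffineZariskiSite) :
    (isAffineOpen_pre V W.2).fromSpec ≫ coeqMap a b =
      Spec.map (CommRingCat.ofHom (((secMap a W.1).hom.eqLocus (secMap b W.1).hom).subtype)) ≫ chart a b W := by
  rw [← cancel_epi (isAffineOpen_pre V W.2).isoSpec.hom, IsAffineOpen.isoSpec_hom_fromSpec_assoc]
  exact (exists_coeqMap a b).choose_spec.2 W

/-- The projection to the coequalizer. -/
def coeqπ : V ⟶ coeq a b := MorphismProperty.Over.homMk (coeqMap a b) (coeqMap_hom a b)

end FEtColim
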