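import Groth.Agent.FEtColimLib.Cat
import Mathlib.CategoryTheory.Limits.MorphismProperty

/-!
# Finite limits of finite étale covers
-/

set_option autoImplicit false
set_option linter.style.haveILetI false
universe u

open CategoryTheory CategoryTheory.Limits AlgebraicGeometry

namespace FEtColim

instance hasOfPostcomp : MorphismProperty.HasOfPostcompProperty FEt.prop.{u} FEt.prop.{u} where
  of_postcomp f g hg hfg := by
    haveI : IsFinite g := hg.1
    haveI : Etale g := hg.2
    haveI : IsFinite (f ≫ g) := hfg.1
    haveI : Etale (f ≫ g) := hfg.2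
    exact ⟨IsFinite.of_comp f g, Etale.of_comp f g⟩

theorem hasFiniteLimits (X : Scheme.{u}) : HasFiniteLimits (FEt.Cat X) :=
  inferInstance

theorem preservesFiniteLimits_restrict {X Y : Scheme.{u}} (f : X ⟶ Y) : PreservesFiniteLimits (FEt.restrict f) :=
  inferInstanceAs (PreservesFiniteLimits (MorphismProperty.Over.pullback FEt.prop.{u} ⊤ f))

end FEtColim
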